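import Mathlib
import Cfsg.Agent.Lib.Helper29.LeoFaithful
import Cfsg.Agent.Lib.helper7.BD.D1Defs2
import Cfsg.Agent.Lib.Helper13.BD4VALXY
import Cfsg.Agent.Lib.Helper25.CharBound
import Cfsg.Agent.Lib.Helper25.CharRestrict
import Cfsg.Agent.Lib.Helper25.BDTSUB
import Cfsg.Agent.Lib.Helper25.BD3GRAM
import Cfsg.Agent.Lib.Helper24.CyclicInertial3
import Cfsg.Agent.Lib.Helper10.BDCHARS
import Cfsg.Agent.Lib.helper2.BDREPS
import Cfsg.Agent.Lib.Helper1.BD3FACTSaux
import Cfsg.Agent.Lib.Helper27.BD3LAM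
import Cfsg.Agent.Lib.Helper11.LinChar
import Cfsg.Agent.Lib.helper8.Burnside

/-!
# Project PSL (S4504), piece BT3le : copy of `Helper25/BHBT3.lean` (project BH) with the boundary hypothesis `2 d + 1 ≤ p`: a member of `B` with the exceptional multiplicity pattern, of degree
`< (p - 1) / 2` and not trivial on `P`, has sign `+ 1`
-/

set_option autoImplicit false
set_option linter.unusedVariables false
set_option linter.unusedSectionVars false
set_option linter.style.haveILetI false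
open scoped ComplexConjugate

namespace Cfsg.Agent.Lib.helper15.PSL

open Cfsg.Agent.Lib.helper7 Cfsg.Agent.Lib.helper7.BD Cfsg.Agent.Lib.helper2 Cfsg.Agent.Lib.Helper25
  Cfsg.Agent.Lib.Helper29

universe u

/-- the sum of a character over a finite group is a multiple of the order -/
theorem pslbt3_sum_char {H : Type*} [Group H] [Fintype H] {V : Type*} [AddCommGroup V] [Module ℂ V]
    [FiniteDimensional ℂ V] (σ : Representation ℂ H V) :
    ∃ k : ℕ, ∑ x : H, σ.character x = (Nat.card H : ℂ) * k := by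
  have hne : (Nat.card H : ℂ) ≠ 0 := by exact_mod_cast Nat.card_pos.ne'
  haveI : Invertible (Nat.card H : ℂ) := invertibleOfNonzero hne
  have h := Representation.card_inv_mul_sum_char_eq_finrank σ
  refine ⟨Module.finrank ℂ (Representation.invariants σ), ?_⟩
  rw [← h, ← mul_assoc, mul_inv_cancel₀ hne, one_mul]

/-- the sum over a subgroup of an irreducible character twisted by a linear character of the subgroup -/
theorem pslbt3_twisted_sum {G : Type*} [Group G] (K : Subgroup G) [Fintype ↥K]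
    (χ : Cfsg.IrrCharacter G) (μ : ↥K →* ℂˣ) :
    ∃ k : ℕ, ∑ x : ↥K, ((μ x : ℂˣ) : ℂ) * (χ : G → ℂ) (x : G) = (Nat.card ↥K : ℂ) * k := by
  obtain ⟨n, ρ, _, hρ⟩ := χ.2
  obtain ⟨k, hk⟩ := pslbt3_sum_char
    (twistRep (ρ.comp K.subtype : Representation ℂ ↥K (Fin n → ℂ)) μ)
  refine ⟨k, ?_⟩
  rw [← hk]
  refine Finset.sum_congr rfl fun x _ => ?_
  rw [← hρ]
  show _ = LinearMap.trace ℂ _
    (twistRep (ρ.comp K.subtype : Representation ℂ ↥K (Fin n → ℂ)) μ x)
  rw [twistRep_apply, map_smul, smul_eq_mul]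
  rfl

/-- complex numbers of norm at most `d` with average `d` are all equal to `d` -/
theorem pslbt3_all_eq {ι : Type*} (s : Finset ι) (f : ι → ℂ) (d : ℝ) (hle : ∀ i ∈ s, ‖f i‖ ≤ d)
    (hsum : ∑ i ∈ s, f i = (s.card : ℂ) * (d : ℂ)) : ∀ i ∈ s, f i = (d : ℂ) := by
  have hre : ∀ i ∈ s, (f i).re ≤ d := fun i hi => (Complex.re_le_norm (f i)).trans (hle i hi)
  have h1 : ∑ i ∈ s, (d - (f i).re) = 0 := by
    rw [Finset.sum_sub_distrib, Finset.sum_const, nsmul_eq_mul]
    have h2 : (∑ i ∈ s, f i).re = (s.card : ℝ) * d := by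
      rw [hsum]
      simp
    rw [Complex.re_sum] at h2
    rw [h2]
    ring
  have h3 := (Finset.sum_eq_zero_iff_of_nonneg (fun i hi => sub_nonneg.mpr (hre i hi))).mp h1
  intro i hi
  have hrei : (f i).re = d := by linarith [h3 i hi]
  have him : (f i).im = 0 := by
    have h4 := hle i hi
    have h5 : ‖f i‖ ^ 2 = (f i).re ^ 2 + (f i).im ^ 2 := by
      rw [Complex.sq_norm, Complex.normSq_apply]
      ring
    have h6 : ‖f i‖ ^ 2 ≤ d ^ 2 := by
      have hd0 : 0 ≤ ‖f i‖ := norm_nonneg _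
      nlinarith
    rw [h5, hrei] at h6
    have h7 : (f i).im ^ 2 ≤ 0 := by linarith
    have h8 : (f i).im ^ 2 = 0 := le_antisymm h7 (sq_nonneg _)
    exact pow_eq_zero_iff (two_ne_zero) |>.mp h8
  apply Complex.ext
  · simp [hrei]
  · simp [him]

/-- the arithmetic of BT3 -/
theorem pslbt3_arith (p d s f k1 k2 q : ℤ) (hp2 : 2 ≤ p) (hs : 1 ≤ s) (hq : p - 1 = f * q) (hf0 : 0 ≤ f)
    (hq0 : 0 ≤ q) (hd0 : 0 ≤ d) (hd : 2 * d + 1 ≤ p) (hk2 : 0 ≤ k2)
    (h1 : d + s * f = p * k1) (h2 : d - s * (p - f) = p * k2) : k1 = d := by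
  have hp : 0 < p := by linarith
  have hq1 : 1 ≤ q := by
    by_contra hc
    have h0 : q = 0 := by omega
    rw [h0, mul_zero] at hq
    linarith
  have hf1 : 1 ≤ f := by
    by_contra hc
    have h0 : f = 0 := by omega
    rw [h0, zero_mul] at hq
    linarith
  have hqle : q ≤ 1 := by
    by_contra hc
    have hq2 : 2 ≤ q := by omega
    have h3 : 2 * f ≤ p - 1 := by
      rw [hq]
      nlinarith
    have h4 : p - f ≤ s * (p - f) := by nlinarith
    have h5 : 0 ≤ p * k2 := mul_nonneg hp.le hk2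
    linarith
  have hq' : q = 1 := le_antisymm hqle hq1
  rw [hq', mul_one] at hq
  have hf : f = p - 1 := hq.symm
  rw [hf] at h1 h2
  have h2' : d - s = p * k2 := by
    have : s * (p - (p - 1)) = s := by ring
    linarith
  have hk20 : k2 = 0 := by
    by_contra hc
    have h6 : 1 ≤ k2 := by omega
    have h7 : p ≤ p * k2 := by nlinarith
    linarith
  rw [hk20, mul_zero] at h2'
  have hds : d = s := by linarith
  have h8 : p * k1 = p * d := by
    rw [← h1, hds]
    ring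
  exact mul_left_cancel₀ hp.ne' h8

section adapter

variable {G : Type u} [Group G] [Fintype G] {M : Ideal Cfsg.AlgInt} {p : ℕ} [Fact p.Prime]
  {P : Sylow p G} {B : Set (Cfsg.IrrCharacter G)}
  {b : Set (Cfsg.IrrCharacter (Subgroup.centralizer ((P : Subgroup G) : Set G)))}
  {θ : Cfsg.IrrCharacter (Subgroup.centralizer ((P : Subgroup G) : Set G))} {T : Subgroup G}
variable [Fintype ↥(Subgroup.centralizer ((P : Subgroup G) : Set G))]
  [Fintype ↥(Subgroup.normalizer ((P : Subgroup G) : Set G))]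

/-- BT3 : a member of `B` with the exceptional multiplicity pattern, of degree `< (p - 1) / 2` and not trivial
on `P`, has sign `+ 1` -/
theorem small_Y_sign_le (h : RootHyp p M P B b θ T) {t : ℕ}
    (r : Fin t → Cfsg.IrrCharacter (Subgroup.centralizer ((P : Subgroup G) : Set G)))
    (hr : IsReps P b θ T ((Subgroup.centralizer ((P : Subgroup G) : Set G)).relIndex T) t r)
    (χ : Cfsg.IrrCharacter G) (hχ : χ ∈ B) (ε : ℤ) (hε : ε = 1 ∨ ε = -1) (j : Fin t)
    (hmul : ∀ j',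
      Cfsg.classInner (r j' : ↥(Subgroup.centralizer ((P : Subgroup G) : Set G)) → ℂ)
          (fun c : ↥(Subgroup.centralizer ((P : Subgroup G) : Set G)) => (χ : G → ℂ) (c : G)) -
        Cfsg.classInner (θ : ↥(Subgroup.centralizer ((P : Subgroup G) : Set G)) → ℂ)
          (fun c : ↥(Subgroup.centralizer ((P : Subgroup G) : Set G)) => (χ : G → ℂ) (c : G)) =
        if j = j' then ((ε : ℤ) : ℂ) else 0)
    (hdeg : 2 * leoDeg χ + 1 ≤ p)
    (hnt : ∃ x ∈ (P : Subgroup G), (χ : G → ℂ) x ≠ (χ : G → ℂ) 1) : ε = 1 := by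
  classical
  rcases hε with hpos | hneg
  · exact hpos
  exfalso
  have hp := (Fact.out : p.Prime)
  obtain ⟨hCT, hTN⟩ := root_C_le_T h
  have hCN : Subgroup.centralizer ((P : Subgroup G) : Set G) ≤
      Subgroup.normalizer ((P : Subgroup G) : Set G) := hCT.trans hTN
  have hPC : (P : Subgroup G) ≤ Subgroup.centralizer ((P : Subgroup G) : Set G) :=
    bdchars_le_centralizer (P : Subgroup G) h.card_P
  obtain ⟨Λ, hΛ1, hΛ2, hΛ3⟩ := root_exists_Lambda P h.card_P
  obtain ⟨a, hap, ha0, hξ⟩ := bd3facts_param h Λ hΛ1 hΛ2 hΛ3 (r j) (hr.mem j)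
  have ha0' : 0 < a := ha0 (hr.ne j)
  haveI : Fintype ↥(P : Subgroup G) := Fintype.ofFinite _
  have hcP : Nat.card ↥(P : Subgroup G) = p := h.card_P
  have hcardP : (Finset.univ : Finset ↥(P : Subgroup G)).card = p := by
    rw [Finset.card_univ, ← Nat.card_eq_fintype_card, hcP]
  -- the faithful linear character `L` of `P`
  set L : ↥(P : Subgroup G) →* ℂˣ :=
    (powMonoidHom a).comp (Λ.comp (Subgroup.inclusion hPC)) with hL
  have hLinj : ∀ x : ↥(P : Subgroup G), L x = 1 → x = 1 := by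
    intro x hx
    have h1 := bd3facts_pow_ne_one Λ hΛ2 hΛ3 (Subgroup.inclusion hPC x) x.2 a ha0' hap hx
    apply Subtype.ext
    exact congrArg (fun c : ↥(Subgroup.centralizer ((P : Subgroup G) : Set G)) => (c : G)) h1
  -- its conjugates
  set Lc : ↥(Subgroup.normalizer ((P : Subgroup G) : Set G)) → (↥(P : Subgroup G) →* ℂˣ) :=
    fun n => L.comp ((P : Subgroup G).normalizerMonoidHom n).toMonoidHom with hLc
  have hLcapp : ∀ (n : ↥(Subgroup.normalizer ((P : Subgroup G) : Set G))) (x : ↥(P : Subgroup G)),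
      Lc n x = L ((P : Subgroup G).normalizerMonoidHom n x) := fun n x => rfl
  obtain ⟨x0, hx0P, hx0⟩ := hnt
  have hx01 : (⟨x0, hx0P⟩ : ↥(P : Subgroup G)) ≠ 1 := by
    intro h1
    apply hx0
    have h2 : x0 = 1 := congrArg Subtype.val h1
    rw [h2]
  have hLcne : ∀ n : ↥(Subgroup.normalizer ((P : Subgroup G) : Set G)), Lc n ≠ 1 := by
    intro n hn
    have h1 : Lc n ⟨x0, hx0P⟩ = 1 := by rw [hn]; rfl
    rw [hLcapp] at h1
    have h2 := hLinj _ h1
    exact hx01 ((MulEquiv.map_eq_one_iff _).mp h2)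
  have hsumLc : ∀ n : ↥(Subgroup.normalizer ((P : Subgroup G) : Set G)),
      ∑ x : ↥(P : Subgroup G), ((Lc n x : ℂˣ) : ℂ) = 0 :=
    fun n => Cfsg.Agent.Lib.Helper11.sum_linChar_eq_zero (Lc n) (hLcne n)
  -- the values of `χ` on `P ∖ 1`
  have hvalY : ∀ x : ↥(P : Subgroup G), x ≠ 1 →
      (Nat.card (Subgroup.centralizer ((P : Subgroup G) : Set G)) : ℂ) * (χ : G → ℂ) (x : G) =
        ((ε : ℤ) : ℂ) * (θ : ↥(Subgroup.centralizer ((P : Subgroup G) : Set G)) → ℂ) 1 *
          ∑ n : ↥(Subgroup.normalizer ((P : Subgroup G) : Set G)), ((Lc n x : ℂˣ) : ℂ) := by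
    intro x hx1
    have hxC : (x : G) ∈ Subgroup.centralizer ((P : Subgroup G) : Set G) := hPC x.2
    have hxG1 : (x : G) ≠ 1 := fun h1 => hx1 (Subtype.ext h1)
    have hord : p ∣ orderOf (⟨(x : G), hxC⟩ :
        ↥(Subgroup.centralizer ((P : Subgroup G) : Set G))) := by
      rw [← Subgroup.orderOf_coe]
      show p ∣ orderOf (x : G)
      rw [h2_orderOf_of_card_prime p (P : Subgroup G) h.card_P (x : G) x.2 hxG1]
    have hY := root_value_Y h r hr χ hχ ε j hmul ⟨(x : G), hxC⟩ hord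
    have hterm : ∀ n : ↥(Subgroup.normalizer ((P : Subgroup G) : Set G)),
        (cjIrr (Subgroup.centralizer ((P : Subgroup G) : Set G)) (n : G) (r j) :
          ↥(Subgroup.centralizer ((P : Subgroup G) : Set G)) → ℂ) ⟨(x : G), hxC⟩ =
        (θ : ↥(Subgroup.centralizer ((P : Subgroup G) : Set G)) → ℂ) 1 *
          ((Lc n⁻¹ x : ℂˣ) : ℂ) := by
      intro n
      have hnC : (n : G) ∈ Subgroup.normalizer
          ((Subgroup.centralizer ((P : Subgroup G) : Set G) : Subgroup G) : Set G) :=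
        Cfsg.Agent.Lib.Helper24.ci_normalizer_le (P : Subgroup G) n.2
      rw [cjIrr_conj _ hnC (r j)
        (Subgroup.inclusion hPC ((P : Subgroup G).normalizerMonoidHom n⁻¹ x)) ⟨(x : G), hxC⟩ (by
          show (x : G) = (n : G) * ((n : G)⁻¹ * (x : G) * ((n : G)⁻¹)⁻¹) * (n : G)⁻¹
          group)]
      rw [hξ, h.hθP _ ((P : Subgroup G).normalizerMonoidHom n⁻¹ x).2, hLcapp, mul_comm]
      congr 1
    have hsumeq : ∑ n : ↥(Subgroup.normalizer ((P : Subgroup G) : Set G)),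
        ((Lc n⁻¹ x : ℂˣ) : ℂ) =
        ∑ n : ↥(Subgroup.normalizer ((P : Subgroup G) : Set G)), ((Lc n x : ℂˣ) : ℂ) :=
      Equiv.sum_comp (Equiv.inv ↥(Subgroup.normalizer ((P : Subgroup G) : Set G)))
        (fun n => ((Lc n x : ℂˣ) : ℂ))
    rw [hY, Finset.sum_congr rfl (fun n _ => hterm n), ← Finset.mul_sum, hsumeq]
    ring
  -- the hom `φ n = L⁻¹ * Lc n`
  have hφsum : ∀ n : ↥(Subgroup.normalizer ((P : Subgroup G) : Set G)),
      ∑ x : ↥(P : Subgroup G), (((L⁻¹ * Lc n) x : ℂˣ) : ℂ) =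
        if (n : G) ∈ Subgroup.centralizer ((P : Subgroup G) : Set G) then (p : ℂ) else 0 := by
    intro n
    by_cases hnC : (n : G) ∈ Subgroup.centralizer ((P : Subgroup G) : Set G)
    · rw [if_pos hnC]
      have h1 : L⁻¹ * Lc n = 1 := by
        ext x
        have h2 : (P : Subgroup G).normalizerMonoidHom n x = x := by
          apply Subtype.ext
          show (n : G) * (x : G) * (n : G)⁻¹ = (x : G)
          have h3 := (Subgroup.mem_centralizer_iff.mp hnC) (x : G) x.2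
          rw [← h3]
          group
        rw [MonoidHom.mul_apply, MonoidHom.inv_apply, hLcapp, h2, inv_mul_cancel]
        rfl
      rw [h1]
      simp only [MonoidHom.one_apply, Units.val_one, Finset.sum_const, nsmul_eq_mul, mul_one]
      rw [hcardP]
    · rw [if_neg hnC]
      apply Cfsg.Agent.Lib.Helper11.sum_linChar_eq_zero
      intro h1
      apply hnC
      rw [Subgroup.mem_centralizer_iff]
      intro y hy
      have h2 : (L⁻¹ * Lc n) ⟨y, hy⟩ = 1 := by rw [h1]; rfl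
      rw [MonoidHom.mul_apply, MonoidHom.inv_apply, hLcapp, inv_mul_eq_one] at h2
      -- `L y = L (n y n⁻¹)`
      have h3 : L (((P : Subgroup G).normalizerMonoidHom n ⟨y, hy⟩) * (⟨y, hy⟩ : ↥(P : Subgroup G))⁻¹) = 1 := by
        rw [map_mul, map_inv, ← h2, mul_inv_cancel]
      have h4 := hLinj _ h3
      have h5 : (P : Subgroup G).normalizerMonoidHom n ⟨y, hy⟩ = ⟨y, hy⟩ := by
        rw [mul_inv_eq_one] at h4
        exact h4
      have h6 : (n : G) * y * (n : G)⁻¹ = y := congrArg Subtype.val h5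
      calc y * (n : G) = ((n : G) * y * (n : G)⁻¹) * (n : G) := by rw [h6]
        _ = (n : G) * y := by group
  -- the two sums over `P`
  obtain ⟨k1, hk1⟩ := Cfsg.Agent.Lib.Helper25.sum_subgroup_irr (P : Subgroup G) χ
  obtain ⟨k2, hk2⟩ := pslbt3_twisted_sum (P : Subgroup G) χ L⁻¹
  rw [hcP] at hk1 hk2
  have h1P : (1 : ↥(P : Subgroup G)) ∈ (Finset.univ : Finset ↥(P : Subgroup G)) := Finset.mem_univ _
  -- `|C| Y`
  have hYsum : (Nat.card (Subgroup.centralizer ((P : Subgroup G) : Set G)) : ℂ) *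
      ∑ x : ↥(P : Subgroup G), (χ : G → ℂ) (x : G) =
      (Nat.card (Subgroup.centralizer ((P : Subgroup G) : Set G)) : ℂ) * (χ : G → ℂ) 1 -
        ((ε : ℤ) : ℂ) * (θ : ↥(Subgroup.centralizer ((P : Subgroup G) : Set G)) → ℂ) 1 *
          (Nat.card (Subgroup.normalizer ((P : Subgroup G) : Set G)) : ℂ) := by
    rw [← Finset.add_sum_erase Finset.univ _ h1P, mul_add, Finset.mul_sum]
    have h2 : ∀ x ∈ (Finset.univ : Finset ↥(P : Subgroup G)).erase 1,
        (Nat.card (Subgroup.centralizer ((P : Subgroup G) : Set G)) : ℂ) * (χ : G → ℂ) (x : G) =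
        ((ε : ℤ) : ℂ) * (θ : ↥(Subgroup.centralizer ((P : Subgroup G) : Set G)) → ℂ) 1 *
          ∑ n : ↥(Subgroup.normalizer ((P : Subgroup G) : Set G)), ((Lc n x : ℂˣ) : ℂ) :=
      fun x hx => hvalY x (Finset.ne_of_mem_erase hx)
    rw [Finset.sum_congr rfl h2, ← Finset.mul_sum, Finset.sum_comm]
    have h3 : ∀ n : ↥(Subgroup.normalizer ((P : Subgroup G) : Set G)),
        ∑ x ∈ (Finset.univ : Finset ↥(P : Subgroup G)).erase 1, ((Lc n x : ℂˣ) : ℂ) = -1 := by
      intro n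
      rw [Finset.sum_erase_eq_sub h1P, hsumLc n, map_one, Units.val_one]
      ring
    rw [Finset.sum_congr rfl (fun n _ => h3 n), Finset.sum_const, Finset.card_univ,
      ← Nat.card_eq_fintype_card, nsmul_eq_mul]
    show _ + _ = _
    have : ((1 : ↥(P : Subgroup G)) : G) = 1 := rfl
    rw [this]
    ring
  -- `|C| X`
  have hXsum : (Nat.card (Subgroup.centralizer ((P : Subgroup G) : Set G)) : ℂ) *
      ∑ x : ↥(P : Subgroup G), (((L⁻¹) x : ℂˣ) : ℂ) * (χ : G → ℂ) (x : G) =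
      (Nat.card (Subgroup.centralizer ((P : Subgroup G) : Set G)) : ℂ) * (χ : G → ℂ) 1 +
        ((ε : ℤ) : ℂ) * (θ : ↥(Subgroup.centralizer ((P : Subgroup G) : Set G)) → ℂ) 1 *
          ((p : ℂ) * (Nat.card (Subgroup.centralizer ((P : Subgroup G) : Set G)) : ℂ) -
            (Nat.card (Subgroup.normalizer ((P : Subgroup G) : Set G)) : ℂ)) := by
    rw [← Finset.add_sum_erase Finset.univ _ h1P, mul_add, Finset.mul_sum]
    have h2 : ∀ x ∈ (Finset.univ : Finset ↥(P : Subgroup G)).erase 1,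
        (Nat.card (Subgroup.centralizer ((P : Subgroup G) : Set G)) : ℂ) *
          ((((L⁻¹) x : ℂˣ) : ℂ) * (χ : G → ℂ) (x : G)) =
        ((ε : ℤ) : ℂ) * (θ : ↥(Subgroup.centralizer ((P : Subgroup G) : Set G)) → ℂ) 1 *
          ∑ n : ↥(Subgroup.normalizer ((P : Subgroup G) : Set G)),
            (((L⁻¹ * Lc n) x : ℂˣ) : ℂ) := by
      intro x hx
      have h3 := hvalY x (Finset.ne_of_mem_erase hx)
      have h4 : (Nat.card (Subgroup.centralizer ((P : Subgroup G) : Set G)) : ℂ) *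
          ((((L⁻¹) x : ℂˣ) : ℂ) * (χ : G → ℂ) (x : G)) =
          (((L⁻¹) x : ℂˣ) : ℂ) *
            ((Nat.card (Subgroup.centralizer ((P : Subgroup G) : Set G)) : ℂ) *
              (χ : G → ℂ) (x : G)) := by ring
      rw [h4, h3, Finset.mul_sum, Finset.mul_sum, Finset.mul_sum]
      refine Finset.sum_congr rfl fun n _ => ?_
      rw [MonoidHom.mul_apply, Units.val_mul]
      ring
    rw [Finset.sum_congr rfl h2, ← Finset.mul_sum, Finset.sum_comm]
    have h3 : ∀ n : ↥(Subgroup.normalizer ((P : Subgroup G) : Set G)),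
        ∑ x ∈ (Finset.univ : Finset ↥(P : Subgroup G)).erase 1, (((L⁻¹ * Lc n) x : ℂˣ) : ℂ) =
        (if (n : G) ∈ Subgroup.centralizer ((P : Subgroup G) : Set G) then (p : ℂ) else 0) - 1 := by
      intro n
      rw [Finset.sum_erase_eq_sub h1P, hφsum n, map_one, Units.val_one]
    rw [Finset.sum_congr rfl (fun n _ => h3 n), Finset.sum_sub_distrib, Finset.sum_const,
      Finset.card_univ, ← Nat.card_eq_fintype_card, nsmul_eq_mul]
    have h5 : ∑ n : ↥(Subgroup.normalizer ((P : Subgroup G) : Set G)),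
        (if (n : G) ∈ Subgroup.centralizer ((P : Subgroup G) : Set G) then (p : ℂ) else 0) =
        (p : ℂ) * (Nat.card (Subgroup.centralizer ((P : Subgroup G) : Set G)) : ℂ) := by
      rw [← bd3gram_count (Subgroup.centralizer ((P : Subgroup G) : Set G))
        (Subgroup.normalizer ((P : Subgroup G) : Set G)) hCN, Finset.mul_sum]
      refine Finset.sum_congr rfl fun n _ => ?_
      split_ifs <;> simp
    rw [h5, map_one, Units.val_one]
    have : ((1 : ↥(P : Subgroup G)) : G) = 1 := rfl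
    rw [this]
    ring
  -- cardinalities
  have hcN : (Nat.card (Subgroup.centralizer ((P : Subgroup G) : Set G)) : ℂ) *
      (((Subgroup.centralizer ((P : Subgroup G) : Set G)).relIndex
        (Subgroup.normalizer ((P : Subgroup G) : Set G)) : ℕ) : ℂ) =
      (Nat.card (Subgroup.normalizer ((P : Subgroup G) : Set G)) : ℂ) := by
    have h1 := Subgroup.relIndex_mul_relIndex ⊥
      (Subgroup.centralizer ((P : Subgroup G) : Set G))
      (Subgroup.normalizer ((P : Subgroup G) : Set G)) bot_le hCN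
    rw [Subgroup.relIndex_bot_left, Subgroup.relIndex_bot_left] at h1
    exact_mod_cast h1
  have hC0 : (Nat.card (Subgroup.centralizer ((P : Subgroup G) : Set G)) : ℂ) ≠ 0 := by
    exact_mod_cast Nat.card_pos.ne'
  set f : ℕ := (Subgroup.centralizer ((P : Subgroup G) : Set G)).relIndex
    (Subgroup.normalizer ((P : Subgroup G) : Set G)) with hf
  have hfdvd : f ∣ p - 1 :=
    Cfsg.Agent.Lib.helper8.h8_relIndex_centralizer_normalizer_dvd_prime p hp (P : Subgroup G) h.card_P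
  obtain ⟨q, hq⟩ := hfdvd
  -- the two relations
  rw [hk1, ← hcN, leoDeg_spec χ, leoDeg_spec θ, hneg] at hYsum
  rw [hk2, ← hcN, leoDeg_spec χ, leoDeg_spec θ, hneg] at hXsum
  have hY' : ((leoDeg χ : ℕ) : ℂ) + ((leoDeg θ : ℕ) : ℂ) * (f : ℂ) = (p : ℂ) * (k1 : ℂ) := by
    apply mul_left_cancel₀ hC0
    rw [hYsum]
    push_cast
    ring
  have hX' : ((leoDeg χ : ℕ) : ℂ) - ((leoDeg θ : ℕ) : ℂ) * ((p : ℂ) - (f : ℂ)) =
      (p : ℂ) * (k2 : ℂ) := by
    apply mul_left_cancel₀ hC0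
    rw [hXsum]
    push_cast
    ring
  have hYZ : ((leoDeg χ : ℕ) : ℤ) + ((leoDeg θ : ℕ) : ℤ) * (f : ℤ) = (p : ℤ) * (k1 : ℤ) := by
    exact_mod_cast hY'
  have hXZ : ((leoDeg χ : ℕ) : ℤ) - ((leoDeg θ : ℕ) : ℤ) * ((p : ℤ) - (f : ℤ)) =
      (p : ℤ) * (k2 : ℤ) := by
    exact_mod_cast hX'
  have hqZ : (p : ℤ) - 1 = (f : ℤ) * (q : ℤ) := by
    have h1 : ((p - 1 : ℕ) : ℤ) = (p : ℤ) - 1 := by
      rw [Nat.cast_sub hp.one_le]
      simp
    rw [← h1, hq]
    push_cast
    ring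
  have hkd : (k1 : ℤ) = ((leoDeg χ : ℕ) : ℤ) :=
    pslbt3_arith (p : ℤ) (leoDeg χ : ℤ) (leoDeg θ : ℤ) (f : ℤ) (k1 : ℤ) (k2 : ℤ) (q : ℤ)
      (by exact_mod_cast hp.two_le) (by exact_mod_cast leoDeg_pos θ) hqZ (Int.natCast_nonneg _) (Int.natCast_nonneg _)
      (Int.natCast_nonneg _) (by exact_mod_cast hdeg) (Int.natCast_nonneg _) hYZ hXZ
  have hkd' : k1 = leoDeg χ := by exact_mod_cast hkd
  -- all the values on `P` are equal to the degree
  have hall := pslbt3_all_eq (Finset.univ : Finset ↥(P : Subgroup G))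
    (fun x => (χ : G → ℂ) (x : G)) (leoDeg χ : ℝ)
    (fun x _ => by
      have h1 := Cfsg.Agent.Lib.Helper25.irr_norm_le χ (x : G)
      rw [leoDeg_spec χ, Complex.norm_natCast] at h1
      exact h1)
    (by
      rw [hk1, hcardP, hkd']
      push_cast
      rfl)
  apply hx0
  have h9 := hall ⟨x0, hx0P⟩ (Finset.mem_univ _)
  rw [leoDeg_spec χ]
  simpa using h9

end adapter

end Cfsg.Agent.Lib.helper15.PSL
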