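import Mathlib
import Cfsg.Agent.Lib.helper15.BH.BT4
import Cfsg.Agent.Lib.helper15.PSL.BT3le

/-!
# Project PSL (S4504), piece BT4le : copy of `small_degree_orbit` (`helper15/BH/BT4.lean`) with the boundary
hypothesis `2 d + 1 ≤ p`
-/

set_option autoImplicit false
set_option linter.unusedVariables false
set_option linter.unusedSectionVars false
set_option linter.style.haveILetI false
open scoped ComplexConjugate
open Classical

namespace Cfsg.Agent.Lib.helper15.PSL

open Cfsg.Agent.Lib.helper7 Cfsg.Agent.Lib.helper7.BD Cfsg.Agent.Lib.helper2 Cfsg.Agent.Lib.Helper25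
  Cfsg.Agent.Lib.Helper29 Cfsg.Agent.Lib.helper15.BH

universe u

section concrete

variable {G : Type u} [Group G] [Fintype G] {p : ℕ} [Fact p.Prime]

/-- BT4le : `small_degree_orbit` (project BH) with the boundary hypothesis `2 d + 1 ≤ p` -/
theorem small_degree_orbit_le (P : Sylow p G) (hP : Nat.card ↥(P : Subgroup G) = p) (hstar : LeoStar P)
    (π : ↥(Subgroup.centralizer ((P : Subgroup G) : Set G)) →* ↥(P : Subgroup G))
    (hπ : ∀ x : ↥(P : Subgroup G), π (Subgroup.inclusion (leoc_P_le_C hstar) x) = x)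
    (χ : Cfsg.IrrCharacter G) (hdeg : 2 * leoDeg χ + 1 ≤ p)
    (hnt : ∃ x ∈ (P : Subgroup G), (χ : G → ℂ) x ≠ (χ : G → ℂ) 1) :
    ∃ θ₁ : Cfsg.IrrCharacter ↥(Subgroup.centralizer ((P : Subgroup G) : Set G)),
      leoOm (leoc_setup hstar π hπ) θ₁ ≠ 1 ∧
      ∀ c : ↥(Subgroup.centralizer ((P : Subgroup G) : Set G)), π c ≠ 1 →
        (χ : G → ℂ) (c : G) = ∑ ϑ ∈ leoOrb (leoc_setup hstar π hπ) θ₁,
          (ϑ : ↥(Subgroup.centralizer ((P : Subgroup G) : Set G)) → ℂ) c := by
  have hp : p.Prime := Fact.out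
  haveI : Fintype (Cfsg.IrrCharacter G) := Fintype.ofFinite _
  obtain ⟨M, hM⟩ := exists_isPModular p hp
  set hL := leoc_setup hstar π hπ with hLdef
  have hdp := leoDeg_pos χ
  have hB : Cfsg.IsPBlock M (Cfsg.blockOf M (χ : G → ℂ)) := ⟨χ, rfl⟩
  have hχB : χ ∈ Cfsg.blockOf M (χ : G → ℂ) := h7_sameBlock_refl hM.2.1.isPrime (χ : G → ℂ)
  have hd := bt4_defect_pos hM P hP χ (by omega)
  obtain ⟨b, θ, T, h⟩ := bt4_root_exists_of_sylow hM P hP _ hB hd
  obtain ⟨t, r, X, y, ε, hr, hBXY, hdisj, hcardX, hyinj, hcardB, hεpm, hεy, hmX, hmY, hdegX, hdegY,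
    hreg⟩ := root_main h
  rw [hBXY] at hχB
  rcases hχB with hχX | ⟨j, hj⟩
  · exfalso
    obtain ⟨x, hx, hne⟩ := hnt
    have hχB' : χ ∈ Cfsg.blockOf M (χ : G → ℂ) := h7_sameBlock_refl hM.2.1.isPrime (χ : G → ℂ)
    exact hne (small_not_X h r hr χ hχB' (ε χ) (hmX χ hχX) (by omega) x hx)
  · have hχB' : χ ∈ Cfsg.blockOf M (χ : G → ℂ) := h7_sameBlock_refl hM.2.1.isPrime (χ : G → ℂ)
    have hmul : ∀ j',
      Cfsg.classInner (r j' : ↥(Subgroup.centralizer ((P : Subgroup G) : Set G)) → ℂ)
          (fun c : ↥(Subgroup.centralizer ((P : Subgroup G) : Set G)) => (χ : G → ℂ) (c : G)) -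
        Cfsg.classInner (θ : ↥(Subgroup.centralizer ((P : Subgroup G) : Set G)) → ℂ)
          (fun c : ↥(Subgroup.centralizer ((P : Subgroup G) : Set G)) => (χ : G → ℂ) (c : G)) =
        if j = j' then ((ε χ : ℤ) : ℂ) else 0 := by
      intro j'
      have := hmY j j'
      rw [hj] at this
      exact this
    have hε1 : ε χ = 1 := small_Y_sign_le h r hr χ hχB' (ε χ) (hεpm χ) j hmul hdeg hnt
    refine ⟨r j, ?_, ?_⟩
    · intro hom
      apply hr.ne j
      apply root_unique h (r j) (hr.mem j)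
      intro x hx
      have hxe : x = Subgroup.inclusion (leoc_P_le_C hstar) ⟨(x : G), hx⟩ := by
        apply Subtype.ext
        rfl
      have h1 := leoOm_apply_one hL (r j) ⟨(x : G), hx⟩
      rw [hom] at h1
      rw [hxe, h1]
      simp
    · intro c hc
      have hsing : p ∣ orderOf (c : G) := (pi_ne_one_iff P hstar π hπ c).mp hc
      have hsing' : p ∣ orderOf c := by
        rw [← Subgroup.orderOf_coe]
        exact hsing
      have hval := root_value_Y h r hr χ hχB' (ε χ) j hmul c hsing'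
      rw [hε1, Int.cast_one, one_mul] at hval
      have hom : leoOm hL (r j) ≠ 1 := by
        intro hom
        apply hr.ne j
        apply root_unique h (r j) (hr.mem j)
        intro x hx
        have hxe : x = Subgroup.inclusion (leoc_P_le_C hstar) ⟨(x : G), hx⟩ := by
          apply Subtype.ext
          rfl
        have h1 := leoOm_apply_one hL (r j) ⟨(x : G), hx⟩
        rw [hom] at h1
        rw [hxe, h1]
        simp
      have hsum : ∑ n : ↥(Subgroup.normalizer ((P : Subgroup G) : Set G)),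
          (cjIrr (Subgroup.centralizer ((P : Subgroup G) : Set G)) (n : G) (r j) :
            ↥(Subgroup.centralizer ((P : Subgroup G) : Set G)) → ℂ) c =
          ∑ n : ↥(Subgroup.normalizer ((P : Subgroup G) : Set G)),
            ((leoCjI hL n (r j) : Cfsg.IrrCharacter _) :
              ↥(Subgroup.centralizer ((P : Subgroup G) : Set G)) → ℂ) c := by
        apply Finset.sum_congr rfl
        intro n _
        have hn : (n : G) ∈ Subgroup.normalizer
            ((Subgroup.centralizer ((P : Subgroup G) : Set G) : Subgroup G) : Set G) := hL.hN n.2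
        rw [leoCjI_coe, leoCj_apply _ _ hn]
        apply cjIrr_conj _ hn
        rw [leoAut_coe]
        group
      rw [hsum, leo_orbit_sum hL (r j) hom
        (fun θ' => (θ' : ↥(Subgroup.centralizer ((P : Subgroup G) : Set G)) → ℂ) c)] at hval
      simp only [nsmul_eq_mul] at hval
      rw [← Finset.mul_sum] at hval
      have hC0 : (Nat.card ↥(Subgroup.centralizer ((P : Subgroup G) : Set G)) : ℂ) ≠ 0 := by
        exact_mod_cast Nat.card_pos.ne'
      exact mul_left_cancel₀ hC0 hval

end concrete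

end Cfsg.Agent.Lib.helper15.PSL
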