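import Mathlib
import Cfsg.Agent.Lib.helper15.BH.Main

/-!
# Project PSL (S4504), piece CORE2 : `core_big` of project BH (`helper15/BH/Main.lean`), refactored to take the shape
of `χ|_C` as a hypothesis
-/

set_option autoImplicit false
set_option linter.unusedVariables false
set_option linter.unusedSectionVars false
set_option linter.style.haveILetI false
open scoped ComplexConjugate
open Classical

namespace Cfsg.Agent.Lib.helper15.PSL

open Cfsg.Agent.Lib.helper7 Cfsg.Agent.Lib.helper2 Cfsg.Agent.Lib.Helper25 Cfsg.Agent.Lib.Helper29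
  Cfsg.Agent.Lib.helper15.BH

universe u

variable {G : Type u} [Group G] [Fintype G] {p : ℕ} [Fact p.Prime]

/-- CORE2 : `core_big` of project BH, with the shape of `χ|_C` as a hypothesis: an irreducible character whose
restriction to `C` is the sum of an `N`-orbit of `e = |N : C|` characters with non-trivial central character on `P`
cannot exist when `2 ≤ e` and `3 e + 1 ≤ p` -/
theorem orbit_small_contra (P : Sylow p G) (hP : Nat.card ↥(P : Subgroup G) = p)
    (hnoK : ∀ K : Subgroup G, K.Normal → (P : Subgroup G) ≤ K → K = ⊤) (hstar : LeoStar P)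
    (π : ↥(Subgroup.centralizer ((P : Subgroup G) : Set G)) →* ↥(P : Subgroup G))
    (hπ : ∀ x : ↥(P : Subgroup G), π (Subgroup.inclusion (leoc_P_le_C hstar) x) = x)
    (χ : Cfsg.IrrCharacter G)
    (θ₁ : Cfsg.IrrCharacter ↥(Subgroup.centralizer ((P : Subgroup G) : Set G)))
    (hθ₁ : leoOm (leoc_setup hstar π hπ) θ₁ ≠ 1)
    (hmult : ∀ θ, leoM (Subgroup.centralizer ((P : Subgroup G) : Set G)) (χ : G → ℂ) θ =
      if θ ∈ leoOrb (leoc_setup hstar π hπ) θ₁ then 1 else 0)
    (hf : 1 < (Subgroup.centralizer ((P : Subgroup G) : Set G)).relIndex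
      (Subgroup.normalizer ((P : Subgroup G) : Set G)))
    (h3f' : 3 * (Subgroup.centralizer ((P : Subgroup G) : Set G)).relIndex
      (Subgroup.normalizer ((P : Subgroup G) : Set G)) + 1 ≤ p) : False := by
  have hpp := (Fact.out : p.Prime)
  set h := leoc_setup hstar π hπ with hh
  set f := (Subgroup.centralizer ((P : Subgroup G) : Set G)).relIndex
      (Subgroup.normalizer ((P : Subgroup G) : Set G)) with hfdef
  haveI : Fintype (Cfsg.IrrCharacter G) := Fintype.ofFinite _
  haveI : Finite (↥(P : Subgroup G) →* ℂˣ) := Nat.finite_of_card_ne_zero (by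
    rw [afd_card_dual (leo_comm h)]
    exact Nat.card_pos.ne')
  haveI : Fintype (↥(P : Subgroup G) →* ℂˣ) := Fintype.ofFinite _
  have hcardorb : (leoOrb h θ₁).card = f := orbit_card_eq_relIndex P hstar π hπ θ₁ hθ₁
  have h3f : 3 * f + 1 ≤ p := h3f'
  have hres := leo_res_orbit h χ θ₁ hmult
  -- the conjugate character
  obtain ⟨lam, hl, hav⟩ := leo_exists_twist h θ₁ (by rw [hcardorb, hP]; omega)
  have hnc := leo_twist_not_mem h θ₁ lam hav
  obtain ⟨χ', hres', hne, hreg0⟩ := exists_conj_char' h χ θ₁ hθ₁ hmult lam hl hnc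
  have hreg : ∀ g : G, ¬ p ∣ orderOf g → (χ' : G → ℂ) g = (χ : G → ℂ) g := by
    intro g hg
    apply hreg0 g
    intro k c hc
    apply leoc_pi_eq_one π c
    rw [hc]
    have : orderOf (k⁻¹ * g * k) = orderOf g := by
      have := h7_orderOf_conj k⁻¹ g
      rwa [inv_inv] at this
    rw [this]
    exact hg
  have hdis := leo_orbits_disjoint_om h θ₁ lam hav
  -- the two product characters
  set W : G → ℂ := fun g => (χ : G → ℂ) g * conj ((χ : G → ℂ) g) with hWdef
  set W' : G → ℂ := fun g => (χ : G → ℂ) g * conj ((χ' : G → ℂ) g) with hW'def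
  have hW : Cfsg.IsCharacter G W :=
    h7_isCharacter_mul (isCharacter_of_irr χ) (bg_isCharacter_conj (isCharacter_of_irr χ))
  have hW' : Cfsg.IsCharacter G W' :=
    h7_isCharacter_mul (isCharacter_of_irr χ) (bg_isCharacter_conj (isCharacter_of_irr χ'))
  have hnofix : ∀ η : Cfsg.IrrCharacter G, Cfsg.classInner W' (η : G → ℂ) ≠ 0 →
      leoA h (η : G → ℂ) = 0 := fun η hη =>
    conj_prod_no_fixed h χ χ' θ₁ _ hres hres' (fun ϑ hϑ ϑ' hϑ' => hdis ϑ ϑ' hϑ hϑ') η hη
  -- the principal block
  obtain ⟨X, Y, a, ε, hXcard, hYne, htrivX, hXval, hε, hYsum, hYsing, hYrel⟩ :=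
    pb_values P hP f rfl hf (by omega)
  have hsingC : ∀ c : ↥(Subgroup.centralizer ((P : Subgroup G) : Set G)), π c ≠ 1 →
      p ∣ orderOf (c : G) := fun c hc => (pi_ne_one_iff P hstar π hπ c).mp hc
  -- inner products with the members of `X`
  have hE1 : ∀ η ∈ X, Cfsg.classInner W (η : G → ℂ) - Cfsg.classInner W' (η : G → ℂ) = (a η : ℂ) := by
    intro η hη
    have := inner_diff_of_const_sing p χ χ' hne hreg (η : G → ℂ) (a η : ℂ) (hXval η hη).2
    rw [this]
    simp
  have hXminus : ∀ η ∈ X, a η = -1 → Cfsg.classInner W' (η : G → ℂ) ≠ 0 := by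
    intro η hη haη h0
    have h1 := hE1 η hη
    obtain ⟨m, hm⟩ := classInner_character_nat hW (isCharacter_of_irr η)
    rw [h0, hm, haη, sub_zero] at h1
    have : ((m : ℤ) : ℂ) = ((-1 : ℤ) : ℂ) := by push_cast; push_cast at h1; exact h1
    have h2 : (m : ℤ) = -1 := by exact_mod_cast this
    omega
  -- degrees of the members of `X`
  have hdegminus : ∀ η ∈ X, a η = -1 → leoDeg η + 1 = p ∧
      ∑ y : ↥(kerG π), (η : G → ℂ) (y : G) = (leoDeg η : ℂ) * (Nat.card ↥(kerG π) : ℂ) := by
    intro η hη haη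
    have hA := hnofix η (hXminus η hη haη)
    have := xminus h η (fun c hc => by rw [(hXval η hη).2 _ (hsingC c hc), haη]; simp) hA
    rw [hP] at this
    exact this
  have hdegplus : ∀ η ∈ X, a η = 1 → η ≠ trivIrr G → p + 1 ≤ leoDeg η := by
    intro η hη haη hne'
    have := xplus h hnoK η hne' (fun c hc => by rw [(hXval η hη).2 _ (hsingC c hc), haη]; simp)
    rw [hP] at this
    exact this
  -- the bound `r (p - 1) ≤ f ^ 2`
  have hr : (X.filter (fun η => a η = -1)).card * (p - 1) ≤ f ^ 2 := by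
    obtain ⟨m, hm, hle⟩ := sum_ge_of_constituents (kerG π) hW' (X.filter (fun η => a η = -1))
      (fun η hη => hXminus η (Finset.mem_filter.mp hη).1 (Finset.mem_filter.mp hη).2) (p - 1)
      (fun η hη => by
        obtain ⟨h1, h2⟩ := hdegminus η (Finset.mem_filter.mp hη).1 (Finset.mem_filter.mp hη).2
        rw [h2]
        congr 2
        omega)
    refine le_trans hle ?_
    have hKreg : ∀ y : ↥(kerG π), ¬ p ∣ orderOf (y : G) := by
      intro y
      obtain ⟨c, hc1, hc2⟩ := (mem_kerG (y : G)).mp y.2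
      rw [← hc2]
      intro hdiv
      exact ((pi_ne_one_iff P hstar π hπ c).mpr hdiv) hc1
    have hsumK : ∑ y : ↥(kerG π), W' (y : G) =
        ((∑ y : ↥(kerG π), Complex.normSq ((χ : G → ℂ) (y : G)) : ℝ) : ℂ) := by
      push_cast
      apply Finset.sum_congr rfl
      intro y _
      rw [hW'def]
      simp only
      rw [hreg _ (hKreg y), Complex.mul_conj]
    have hnorm := ker_norm_le h χ θ₁ hres
    rw [hcardorb] at hnorm
    have hKpos : (0 : ℝ) < (Nat.card ↥(kerG π) : ℝ) := by exact_mod_cast Nat.card_pos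
    have h1 : ((m : ℝ) : ℂ) * (Nat.card ↥(kerG π) : ℂ) =
        ((∑ y : ↥(kerG π), Complex.normSq ((χ : G → ℂ) (y : G)) : ℝ) : ℂ) := by
      rw [← hsumK, hm]
      push_cast
      rfl
    have h2 : (m : ℝ) * (Nat.card ↥(kerG π) : ℝ) =
        ∑ y : ↥(kerG π), Complex.normSq ((χ : G → ℂ) (y : G)) := by
      exact_mod_cast h1
    have h3 : (m : ℝ) * (Nat.card ↥(kerG π) : ℝ) ≤ (f : ℝ) ^ 2 * (Nat.card ↥(kerG π) : ℝ) := by
      rw [h2]; exact hnorm
    have h4 : (m : ℝ) ≤ (f : ℝ) ^ 2 := le_of_mul_le_mul_right h3 hKpos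
    exact_mod_cast h4
  -- the degree relation
  obtain ⟨η₀, hη₀⟩ := hYne
  have hD : ∑ η ∈ X, a η * (leoDeg η : ℤ) ≤ (f : ℤ) := by
    have hrel := hYrel η₀ hη₀
    have hrel' : (ε : ℂ) * (leoDeg η₀ : ℂ) = ((∑ η ∈ X, a η * (leoDeg η : ℤ) : ℤ) : ℂ) := by
      rw [← leoDeg_spec η₀, hrel]
      push_cast
      apply Finset.sum_congr rfl
      intro η _
      rw [leoDeg_spec]
    have hrelZ : ε * (leoDeg η₀ : ℤ) = ∑ η ∈ X, a η * (leoDeg η : ℤ) := by
      exact_mod_cast hrel'
    rcases hε with hε1 | hε1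
    · -- `ε = 1`
      have hsumY : ∑ η ∈ Y, (Cfsg.classInner W (η : G → ℂ) - Cfsg.classInner W' (η : G → ℂ)) = -1 := by
        have := inner_diff_of_const_sing p χ χ' hne hreg (fun g => ∑ η ∈ Y, (η : G → ℂ) g)
          (-(ε : ℂ)) hYsing
        have e1 : ∀ V : G → ℂ, Cfsg.classInner V (fun g => ∑ η ∈ Y, (η : G → ℂ) g) =
            ∑ η ∈ Y, Cfsg.classInner V (η : G → ℂ) := by
          intro V
          have := h7_classInner_sum_right Y V (fun η => (η : G → ℂ))
          rw [← this]
          congr 1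
          funext g
          simp
        rw [e1, e1, ← Finset.sum_sub_distrib] at this
        rw [this, hε1]
        simp
      have hex : ∃ η ∈ Y, Cfsg.classInner W' (η : G → ℂ) ≠ 0 := by
        by_contra hcon
        push Not at hcon
        have h1 : ∑ η ∈ Y, (Cfsg.classInner W (η : G → ℂ) - Cfsg.classInner W' (η : G → ℂ)) =
            ∑ η ∈ Y, Cfsg.classInner W (η : G → ℂ) :=
          Finset.sum_congr rfl (fun η hη => by rw [hcon η hη, sub_zero])
        rw [h1] at hsumY
        choose mW hmW using fun η : Cfsg.IrrCharacter G =>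
          classInner_character_nat hW (isCharacter_of_irr η)
        simp only [hmW] at hsumY
        have : ((∑ η ∈ Y, mW η : ℕ) : ℂ) = ((-1 : ℤ) : ℂ) := by push_cast; exact hsumY
        have h2 : ((∑ η ∈ Y, mW η : ℕ) : ℤ) = -1 := by exact_mod_cast this
        omega
      obtain ⟨η₁, hη₁, hne1⟩ := hex
      have hA := hnofix η₁ hne1
      have hdeg1 : (leoDeg η₁ : ℤ) = ε * (f : ℤ) :=
        ydeg h η₁ (ε * (f : ℤ)) (by rw [hYsum η₁ hη₁]; push_cast; rfl) hA
      have hrel1 := hYrel η₁ hη₁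
      have hrel1' : (ε : ℂ) * (leoDeg η₁ : ℂ) = ((∑ η ∈ X, a η * (leoDeg η : ℤ) : ℤ) : ℂ) := by
        rw [← leoDeg_spec η₁, hrel1]
        push_cast
        apply Finset.sum_congr rfl
        intro η _
        rw [leoDeg_spec]
      have hrel1Z : ε * (leoDeg η₁ : ℤ) = ∑ η ∈ X, a η * (leoDeg η : ℤ) := by
        exact_mod_cast hrel1'
      rw [← hrel1Z, hdeg1, hε1]
      simp
    · -- `ε = -1`
      rw [← hrelZ, hε1]
      have : (0 : ℤ) ≤ (leoDeg η₀ : ℤ) := by positivity
      have hf0 : (0 : ℤ) ≤ (f : ℤ) := by positivity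
      linarith
  -- conclusion
  exact count_contra p f hpp (by omega) h3f X (trivIrr G) htrivX hXcard a
    (fun η hη => (hXval η hη).1) (fun η => leoDeg η)
    (by
      have := leoDeg_spec (trivIrr G)
      rw [trivIrr_apply] at this
      exact_mod_cast this.symm)
    (by
      have h1 := (hXval (trivIrr G) htrivX).2
      -- an element of order `p` exists
      obtain ⟨x, hx⟩ := exists_prime_orderOf_dvd_card' (G := G) p (by
        have := Subgroup.card_subgroup_dvd_card (P : Subgroup G)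
        rwa [hP] at this)
      have h2 := h1 x (by rw [hx])
      rw [trivIrr_apply] at h2
      exact_mod_cast h2.symm)
    (fun η hη haη => (hdegminus η hη haη).1) hdegplus hD hr


end Cfsg.Agent.Lib.helper15.PSL
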