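import Mathlib
import Cfsg.Agent.Lib.Helper29.LeoFaithful
import Cfsg.Agent.Lib.helper15.BH.Defs
import Cfsg.Agent.Lib.helper7.BR.Defs

/-!
# Project PSL (S4504, Brauer 1942: a faithful character of degree `(p - 1) / 2`) : definitions

See `PLAN.md`.  Vocabulary: the Leo library (`Helper29/Leo*.lean`), `kerG` (project BH), `nrm P = N_G(P)`,
`cen P = C_G(P)` (project BR).  Everything here is a bundle of hypotheses (a `Prop`-valued structure) used as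
interface between the stages of the proof.
-/

set_option autoImplicit false
set_option linter.unusedVariables false
set_option linter.unusedSectionVars false
open scoped ComplexConjugate
open Classical

namespace Cfsg.Agent.Lib.helper15.PSL

open Cfsg.Agent.Lib.helper7 Cfsg.Agent.Lib.helper7.BR Cfsg.Agent.Lib.Helper25 Cfsg.Agent.Lib.Helper29
  Cfsg.Agent.Lib.helper15.BH

universe u

variable {G : Type u} [Group G] [Fintype G]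

/-- the local configuration: `|P| = p = 2 f + 1`, `f ≥ 2`, `|N_G(P) : C_G(P)| = f`, `C_G(P) = P × Z(G)`,
`P` not normal -/
structure Loc (p f : ℕ) (P : Sylow p G) : Prop where
  two_f : 2 * f + 1 = p
  f_ge : 2 ≤ f
  cardP : Nat.card ↥(P : Subgroup G) = p
  relIndex : (cen P).relIndex (nrm P) = f
  cardC : Nat.card ↥(cen P) = p * Nat.card ↥(Subgroup.center G)
  not_normal : ¬ (P : Subgroup G).Normal

/-- the members of `X` with sign `+ 1` (the principal character is one of them) -/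
noncomputable def Xp (X : Finset (Cfsg.IrrCharacter G)) (a : Cfsg.IrrCharacter G → ℤ) :
    Finset (Cfsg.IrrCharacter G) :=
  X.filter (fun ξ => a ξ = 1)

/-- the members of `X` with sign `- 1` -/
noncomputable def Xm (X : Finset (Cfsg.IrrCharacter G)) (a : Cfsg.IrrCharacter G → ℤ) :
    Finset (Cfsg.IrrCharacter G) :=
  X.filter (fun ξ => a ξ = -1)

/-- the principal block, first part (from S4709): `X` (`f` characters with constant value `a ξ = ± 1` on the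
`p`-singular elements) and `Y` (two characters agreeing on the `p`-regular elements) -/
structure PB0 (p f : ℕ) (P : Subgroup G) (X Y : Finset (Cfsg.IrrCharacter G))
    (a : Cfsg.IrrCharacter G → ℤ) (ε : ℤ) : Prop where
  cardX : X.card = f
  cardY : Y.card = 2
  disj : Disjoint X Y
  triv_mem : trivIrr G ∈ X
  a_pm : ∀ ξ ∈ X, a ξ = 1 ∨ a ξ = -1
  valX : ∀ ξ ∈ X, ∀ g : G, p ∣ orderOf g → (ξ : G → ℂ) g = (a ξ : ℂ)
  eps_pm : ε = 1 ∨ ε = -1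
  sumP : ∀ η ∈ Y, ∑ x : ↥P, (η : G → ℂ) (x : G) = (η : G → ℂ) 1 - (ε : ℂ) * (f : ℂ)
  sumY : ∀ g : G, p ∣ orderOf g → ∑ η ∈ Y, (η : G → ℂ) g = -(ε : ℂ)
  rel : ∀ η ∈ Y, ∀ g : G, ¬ p ∣ orderOf g →
    (ε : ℂ) * (η : G → ℂ) g = ∑ ξ ∈ X, (a ξ : ℂ) * (ξ : G → ℂ) g
  agree : ∀ η ∈ Y, ∀ η' ∈ Y, ∀ g : G, ¬ p ∣ orderOf g → (η : G → ℂ) g = (η' : G → ℂ) g

/-- the principal block with its degrees (`D` = the degree of the members of `Y`); the centre of `G` is in the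
kernel of all its members -/
structure PB (p f : ℕ) (P : Subgroup G) (X Y : Finset (Cfsg.IrrCharacter G))
    (a : Cfsg.IrrCharacter G → ℤ) (ε : ℤ) (D : ℕ) : Prop extends PB0 p f P X Y a ε where
  degY : ∀ η ∈ Y, (η : G → ℂ) 1 = (D : ℂ)
  deg_minus : ∀ ξ ∈ X, a ξ = -1 → (ξ : G → ℂ) 1 = (p : ℂ) - 1
  deg_plus : ∀ ξ ∈ X, a ξ = 1 → ξ ≠ trivIrr G → (ξ : G → ℂ) 1 = (p : ℂ) + 1
  cker : ∀ ξ ∈ X ∪ Y, ∀ ζ ∈ Subgroup.center G, ∀ g : G, (ξ : G → ℂ) (g * ζ) = (ξ : G → ℂ) g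

/-- case A (`p ≡ 3 mod 4`): `ε = 1`, `D = f`, `χ conj χ = ∑_{Xp} ξ` -/
structure CaseA (f : ℕ) (χ : Cfsg.IrrCharacter G) (X : Finset (Cfsg.IrrCharacter G))
    (a : Cfsg.IrrCharacter G → ℤ) (ε : ℤ) (D : ℕ) : Prop where
  eps : ε = 1
  D_eq : D = f
  cardXp : 2 * (Xp X a).card = f + 1
  W : ∀ g : G, (χ : G → ℂ) g * conj ((χ : G → ℂ) g) = ∑ ξ ∈ Xp X a, (ξ : G → ℂ) g

/-- case B (`p ≡ 1 mod 4`): `ε = - 1`, `D = f + 1`, `χ conj χ = ∑_{Xp} ξ + η₀` with `η₀ ∈ Y`,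
`χ conj χ' = ∑_{Xm} ξ` -/
structure CaseB (f : ℕ) (χ χ' : Cfsg.IrrCharacter G) (X Y : Finset (Cfsg.IrrCharacter G))
    (a : Cfsg.IrrCharacter G → ℤ) (ε : ℤ) (D : ℕ) (η₀ : Cfsg.IrrCharacter G) : Prop where
  eps : ε = -1
  D_eq : D = f + 1
  mem : η₀ ∈ Y
  cardXp : 2 * (Xp X a).card = f
  W : ∀ g : G, (χ : G → ℂ) g * conj ((χ : G → ℂ) g) =
    ∑ ξ ∈ Xp X a, (ξ : G → ℂ) g + (η₀ : G → ℂ) g
  W' : ∀ g : G, (χ : G → ℂ) g * conj ((χ' : G → ℂ) g) = ∑ ξ ∈ Xm X a, (ξ : G → ℂ) g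

/-- the block of `χ` (case B): `X'` (`f` characters with value `a' ξ · ν(ζ)` at `x ζ`, `x ∈ P ∖ 1`, `ζ ∈ Z(G)`,
where `ν = χ / f` on `Z(G)`), `χ` and its conjugate `χ'` -/
structure BX (p f : ℕ) (P : Subgroup G) (χ χ' : Cfsg.IrrCharacter G)
    (X' : Finset (Cfsg.IrrCharacter G)) (a' : Cfsg.IrrCharacter G → ℤ) : Prop where
  cardX : X'.card = f
  a_pm : ∀ ξ ∈ X', a' ξ = 1 ∨ a' ξ = -1
  val : ∀ ξ ∈ X', ∀ x ∈ P, x ≠ 1 → ∀ ζ ∈ Subgroup.center G,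
    (f : ℂ) * (ξ : G → ℂ) (x * ζ) = (a' ξ : ℂ) * (χ : G → ℂ) ζ
  rel : ∀ g : G, ¬ p ∣ orderOf g → (χ : G → ℂ) g = ∑ ξ ∈ X', (a' ξ : ℂ) * (ξ : G → ℂ) g
  hne : χ' ≠ χ
  hreg : ∀ g : G, ¬ p ∣ orderOf g → (χ' : G → ℂ) g = (χ : G → ℂ) g
  hsum : ∀ x ∈ P, x ≠ 1 → (χ : G → ℂ) x + (χ' : G → ℂ) x = -1
  sumP : ∑ x : ↥P, (χ : G → ℂ) (x : G) = 0
  degχ : (χ : G → ℂ) 1 = (f : ℂ)

/-- `ξ` has the same central character as `χ₀` -/
def SameCC (χ₀ ξ : Cfsg.IrrCharacter G) : Prop :=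
  ∀ ζ ∈ Subgroup.center G,
    (ξ : G → ℂ) ζ * (χ₀ : G → ℂ) 1 = (χ₀ : G → ℂ) ζ * (ξ : G → ℂ) 1

/-- the summand of the class multiplication constant -/
noncomputable def term (a b z : G) (ξ : Cfsg.IrrCharacter G) : ℂ :=
  (ξ : G → ℂ) a * (ξ : G → ℂ) b * conj ((ξ : G → ℂ) z) / (ξ : G → ℂ) 1

/-- the `X`-part of the class multiplication constant at a `p`-regular element `z` -/
noncomputable def Upart (X : Finset (Cfsg.IrrCharacter G)) (z : G) : ℂ :=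
  ∑ ξ ∈ X, conj ((ξ : G → ℂ) z) / (ξ : G → ℂ) 1

section leo

variable {p : ℕ} {C N P : Subgroup G} {hPC : P ≤ C} {π : ↥C →* ↥P}

/-- the outcome of the first stage: `χ|_C` is the sum of an `N`-orbit of `f` linear characters, `χ'` is the
conjugate character -/
structure M1Out (h : LeoSetup p C N P hPC π) (f : ℕ) (χ χ' : Cfsg.IrrCharacter G)
    (θ₁ θ₂ : Cfsg.IrrCharacter ↥C) : Prop where
  hθ₁ : leoOm h θ₁ ≠ 1
  hθ₂ : leoOm h θ₂ ≠ 1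
  hres : ∀ c : ↥C, (χ : G → ℂ) (c : G) = ∑ ϑ ∈ leoOrb h θ₁, (ϑ : ↥C → ℂ) c
  hres' : ∀ c : ↥C, (χ' : G → ℂ) (c : G) = ∑ ϑ ∈ leoOrb h θ₂, (ϑ : ↥C → ℂ) c
  hcard : (leoOrb h θ₁).card = f
  hcard' : (leoOrb h θ₂).card = f
  hlin : leoDeg θ₁ = 1
  hdis : ∀ ϑ ∈ leoOrb h θ₁, ∀ ϑ' ∈ leoOrb h θ₂, leoOm h ϑ ≠ leoOm h ϑ'
  hne : χ' ≠ χ
  hreg : ∀ g : G, ¬ p ∣ orderOf g → (χ' : G → ℂ) g = (χ : G → ℂ) g

end leo

end Cfsg.Agent.Lib.helper15.PSL
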