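import Mathlib
import Cfsg.Agent.Lib.Helper10.PSLA1
import Cfsg.Agent.Lib.Helper10.PSLQY
import Cfsg.Agent.Lib.Helper10.PSLUA
import Cfsg.Agent.Lib.Helper10.PSLYSQ
import Cfsg.Agent.Lib.Helper13.PSLCL1
import Cfsg.Agent.Lib.Helper13.PSLEXB
import Cfsg.Agent.Lib.Helper16.PSLSINGSUM2
import Cfsg.Agent.Lib.Helper20.PSLQGEN
import Cfsg.Agent.Lib.Helper20.PSLRECOG
import Cfsg.Agent.Lib.Helper21.PSLFOUR
import Cfsg.Agent.Lib.Helper21.PSLPOS
import Cfsg.Agent.Lib.Helper21.PSLPOS0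
import Cfsg.Agent.Lib.Helper25.PSLINEQ2
import Cfsg.Agent.Lib.Helper25.PSLQCHI
import Cfsg.Agent.Lib.Helper25.PSLTNSUM
import Cfsg.Agent.Lib.Helper27.PSLB2A
import Cfsg.Agent.Lib.Helper27.PSLB2B
import Cfsg.Agent.Lib.Helper27.PSLB2C
import Cfsg.Agent.Lib.Helper27.PSLUB
import Cfsg.Agent.Lib.Helper28.PSLCARDG
import Cfsg.Agent.Lib.Helper28.PSLCOMPLETE
import Cfsg.Agent.Lib.Helper28.PSLMOMFIN
import Cfsg.Agent.Lib.Helper28.PSLVANISH
import Cfsg.Agent.Lib.Helper29.PSLALGA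
import Cfsg.Agent.Lib.Helper29.PSLALGB
import Cfsg.Agent.Lib.Helper29.PSLDECOMP
import Cfsg.Agent.Lib.Helper9.PSLCENPROD
import Cfsg.Agent.Lib.Helper9.PSLSINGSUM
import Cfsg.Agent.Lib.helper23.PSLDEGSUM
import Cfsg.Agent.Lib.helper23.PSLINEQ1
import Cfsg.Agent.Lib.helper23.PSLSQSUM
import Cfsg.Agent.Lib.helper23.PSLT1SUM
import Cfsg.Agent.Lib.helper23.PSLZCHI
import Cfsg.Agent.Lib.helper4.PSLMOMA
import Cfsg.Agent.Lib.helper4.PSLMOMB
import Cfsg.Agent.Lib.helper15.PSL.Defs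
import Cfsg.Agent.S0840
import Cfsg.Agent.Lib.Helper25.CharOrth

/-!
# Project PSL (S4504) : the landed pieces of the skeleton, part 1 (group level: local lemmas, positivity, completeness, the two cases, the moments, the recognition).

Import-only file: every piece of `Skeleton1.lean.txt` is proved in one of the modules above, in the namespace
`Cfsg.Agent.Lib.helper15.PSL`, with the statement of the skeleton.
-/
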