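import Mathlib
import Cfsg.Agent.Lib.helper15.PSL.Defs
import Cfsg.Agent.Lib.helper15.PSL.Pieces1
import Cfsg.Agent.Lib.Helper25.CharBound

/-!
# Project PSL (S4504) : assembly, part 1 (group level): the key inequality `|χ(z)| ≤ 1` for the non-central
`p`-regular elements in the two cases, the index of `N_G(P)`, the recognition
-/

set_option autoImplicit false
set_option linter.unusedVariables false
set_option linter.unusedSectionVars false
open scoped ComplexConjugate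
open Classical

namespace Cfsg.Agent.Lib.helper15.PSL

open Cfsg.Agent.Lib.helper7 Cfsg.Agent.Lib.helper7.BR Cfsg.Agent.Lib.helper2 Cfsg.Agent.Lib.Helper25
  Cfsg.Agent.Lib.Helper29 Cfsg.Agent.Lib.helper15.BH

universe u

variable {G : Type u} [Group G] [Fintype G] {p : ℕ} [Fact p.Prime]

/-- `normSq` of a character value is bounded by the square of the degree -/
theorem normSq_le_deg (η : Cfsg.IrrCharacter G) (d : ℕ) (hd : (η : G → ℂ) 1 = (d : ℂ)) (g : G) :
    Complex.normSq ((η : G → ℂ) g) ≤ (d : ℝ) ^ 2 := by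
  have h1 := irr_norm_le η g
  rw [hd] at h1
  have h2 : ‖((d : ℕ) : ℂ)‖ = (d : ℝ) := by simp
  rw [h2] at h1
  rw [Complex.normSq_eq_norm_sq]
  have h0 : 0 ≤ ‖(η : G → ℂ) g‖ := norm_nonneg _
  nlinarith

/-- a member of `Y` and the common value at a `p`-regular element -/
theorem exists_Y_value {f : ℕ} {P : Sylow p G} {X Y : Finset (Cfsg.IrrCharacter G)}
    {a : Cfsg.IrrCharacter G → ℤ} {ε : ℤ} {D : ℕ} (hB : PB p f (P : Subgroup G) X Y a ε D)
    (z : G) (hz : ¬ p ∣ orderOf z) :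
    ∃ η ∈ Y, ∀ η' ∈ Y, (η' : G → ℂ) z = (η : G → ℂ) z := by
  have hne : Y.Nonempty := by
    rw [← Finset.card_pos, hB.cardY]
    norm_num
  obtain ⟨η, hη⟩ := hne
  exact ⟨η, hη, fun η' hη' => hB.agree η' hη' η hη z hz⟩

/-- KEYA : in case A the non-central `p`-regular elements have `|χ(z)| ≤ 1` -/
theorem key_A {f : ℕ} {P : Sylow p G} {X Y : Finset (Cfsg.IrrCharacter G)}
    {a : Cfsg.IrrCharacter G → ℤ} {ε : ℤ} {D : ℕ} {χ : Cfsg.IrrCharacter G} (hL : Loc p f P)
    (hB : PB p f (P : Subgroup G) X Y a ε D) (hA : CaseA f χ X a ε D)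
    (hχ1 : (χ : G → ℂ) 1 = (f : ℂ))
    (hfaith : ∀ g : G, (χ : G → ℂ) g = (χ : G → ℂ) 1 → g = 1)
    (z : G) (hz : ¬ p ∣ orderOf z) (hzc : z ∉ Subgroup.center G) :
    Complex.normSq ((χ : G → ℂ) z) ≤ 1 := by
  obtain ⟨η, hη, hy⟩ := exists_Y_value hB z hz
  set y := (η : G → ℂ) z with hydef
  obtain ⟨h1, h2, h3, h4⟩ := ineq_one hL hB z hz y hy
  have hU := caseA_Upart hL hB hA z hz y hy
  have hp := hL.two_f
  have hD := hA.D_eq
  subst hD
  subst hp
  rw [hU] at h1 h2 h3 h4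
  have hle := normSq_le_deg η D (hB.degY η hη) z
  have habs := caseA_abs hL hB hA η hη z
  have hns : Complex.normSq ((χ : G → ℂ) z) = Complex.normSq y := by
    have e1 : ((Complex.normSq ((χ : G → ℂ) z) : ℝ) : ℂ) = ((Complex.normSq y : ℝ) : ℂ) := by
      rw [← Complex.mul_conj, ← Complex.mul_conj, hydef, habs]
    exact_mod_cast e1
  rw [hns]
  rcases caseA_alg D hL.f_ge y h1 h2 h3 h4 hle with h | h
  · exact h
  · exfalso
    apply hzc
    apply center_of_norm_eq χ hfaith z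
    rw [hχ1, Complex.mul_conj, hns, h]
    push_cast
    ring

/-- KEYB : in case B the non-central `p`-regular elements have `|χ(z)| ≤ 1` -/
theorem key_B {f : ℕ} {P : Sylow p G} {X Y X' : Finset (Cfsg.IrrCharacter G)}
    {a a' : Cfsg.IrrCharacter G → ℤ} {ε : ℤ} {D : ℕ} {χ χ' η₀ : Cfsg.IrrCharacter G}
    (hL : Loc p f P) (hB : PB p f (P : Subgroup G) X Y a ε D)
    (hC : CaseB f χ χ' X Y a ε D η₀) (hX : BX p f (P : Subgroup G) χ χ' X' a')
    (hfaith : ∀ g : G, (χ : G → ℂ) g = (χ : G → ℂ) 1 → g = 1)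
    (z : G) (hz : ¬ p ∣ orderOf z) (hzc : z ∉ Subgroup.center G) :
    Complex.normSq ((χ : G → ℂ) z) ≤ 1 := by
  obtain ⟨η, hη, hy⟩ := exists_Y_value hB z hz
  set y := (η : G → ℂ) z with hydef
  obtain ⟨h1, h2, h3, h4⟩ := ineq_one hL hB z hz y hy
  obtain ⟨h5, h6⟩ := ineq_two hL hB hC hX z hz y hy
  obtain ⟨hU, hU'⟩ := caseB_Upart hL hB hC hX z hz y hy
  have hp := hL.two_f
  have hD := hC.D_eq
  subst hD
  subst hp
  rw [hU] at h1 h3 h5 h6
  rw [hU'] at h5 h6
  have hyle := normSq_le_deg η (f + 1) (hB.degY η hη) z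
  have hle := normSq_le_deg χ f hX.degχ z
  have hyle' : Complex.normSq y ≤ ((f : ℝ) + 1) ^ 2 := by
    have : ((f + 1 : ℕ) : ℝ) = (f : ℝ) + 1 := by push_cast; ring
    rw [this] at hyle
    exact hyle
  rcases caseB_alg f hL.f_ge ((χ : G → ℂ) z) y h1 h3 h5 h6 hyle' hle with h | h
  · exact h
  · exfalso
    apply hzc
    apply center_of_norm_eq χ hfaith z
    rw [hX.degχ, Complex.mul_conj, h]
    push_cast
    ring

/-- the tail of the proof: from the block data to the isomorphism -/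
theorem thm_tail {f : ℕ} {P : Sylow p G} {χ : Cfsg.IrrCharacter G} (hL : Loc p f P)
    (hperf : commutator G = ⊤) (hχ1 : (χ : G → ℂ) 1 = (f : ℂ))
    (hfaith : ∀ g : G, (χ : G → ℂ) g = (χ : G → ℂ) 1 → g = 1)
    (hcase : ∃ (X Y : Finset (Cfsg.IrrCharacter G)) (a : Cfsg.IrrCharacter G → ℤ) (ε : ℤ) (D : ℕ),
      PB p f (P : Subgroup G) X Y a ε D ∧ (CaseA f χ X a ε D ∨
        ∃ (χ' η₀ : Cfsg.IrrCharacter G) (X' : Finset (Cfsg.IrrCharacter G))
          (a' : Cfsg.IrrCharacter G → ℤ), CaseB f χ χ' X Y a ε D η₀ ∧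
            BX p f (P : Subgroup G) χ χ' X' a')) :
    (nrm P).index = p + 1 ∧
      Nonempty ((G ⧸ Subgroup.center G) ≃* Matrix.ProjectiveSpecialLinearGroup (Fin 2) (ZMod p)) := by
  obtain ⟨X, Y, a, ε, D, hB, hAB⟩ := hcase
  have hidx : (nrm P).index = p + 1 := by
    rcases hAB with hA | ⟨χ', η₀, X', a', hC, hX⟩
    · exact index_of_moment hL χ (moment_A hL hB hA hχ1)
        (fun z hz hzc => key_A hL hB hA hχ1 hfaith z hz hzc)
    · exact index_of_moment hL χ (moment_B hL hB hC hχ1)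
        (fun z hz hzc => key_B hL hB hC hX hfaith z hz hzc)
  exact ⟨hidx, recognize hL hperf hidx⟩

end Cfsg.Agent.Lib.helper15.PSL
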