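import Mathlib
import Cfsg.Agent.Lib.helper15.PSL.Defs
import Cfsg.Agent.Lib.helper15.BH.Main
import Cfsg.Agent.Lib.Helper13.PSLZLEV
import Cfsg.Agent.Lib.Helper22.PSLBCHI

/-!
# Project PSL (S4504) : piece BCHI (Skeleton2), the statement of the skeleton

`bchi_values` from helper22's `pslbchi_main` (which has the hypothesis `Z(G) ≤ ker π` instead of `P` not normal) and
`center_le_ker`.
-/

set_option autoImplicit false
set_option linter.unusedVariables false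
set_option linter.unusedSectionVars false
open scoped ComplexConjugate
open Classical

namespace Cfsg.Agent.Lib.helper15.PSL

open Cfsg.Agent.Lib.helper7 Cfsg.Agent.Lib.helper7.BR Cfsg.Agent.Lib.helper2 Cfsg.Agent.Lib.Helper25
  Cfsg.Agent.Lib.Helper29 Cfsg.Agent.Lib.helper15.BH

universe u

variable {G : Type u} [Group G] [Fintype G] {p : ℕ} [Fact p.Prime]

/-- BCHI : the block of `χ`, when the normal `p`-complement of `C_G(P)` is central -/
theorem bchi_values (P : Sylow p G) (hP : Nat.card ↥(P : Subgroup G) = p)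
    (hPn : ¬ (P : Subgroup G).Normal) (hstar : LeoStar P)
    (π : ↥(Subgroup.centralizer ((P : Subgroup G) : Set G)) →* ↥(P : Subgroup G))
    (hπ : ∀ x : ↥(P : Subgroup G), π (Subgroup.inclusion (leoc_P_le_C hstar) x) = x)
    (hVZ : kerG π ≤ Subgroup.center G)
    (χ : Cfsg.IrrCharacter G) (f : ℕ) (hpf : 2 * f + 1 = p) (hχ1 : (χ : G → ℂ) 1 = (f : ℂ))
    (hnt : ∃ x ∈ (P : Subgroup G), (χ : G → ℂ) x ≠ (χ : G → ℂ) 1) :
    ∃ (X' : Finset (Cfsg.IrrCharacter G)) (a' : Cfsg.IrrCharacter G → ℤ),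
      X'.card = (cen P).relIndex (nrm P) ∧ (∀ ξ ∈ X', a' ξ = 1 ∨ a' ξ = -1) ∧
      (∀ ξ ∈ X', ∀ x ∈ (P : Subgroup G), x ≠ 1 → ∀ ζ ∈ Subgroup.center G,
        (f : ℂ) * (ξ : G → ℂ) (x * ζ) = (a' ξ : ℂ) * (χ : G → ℂ) ζ) ∧
      (∀ g : G, ¬ p ∣ orderOf g → (χ : G → ℂ) g = ∑ ξ ∈ X', (a' ξ : ℂ) * (ξ : G → ℂ) g) :=
  pslbchi_main P hP hstar π hπ hVZ (center_le_ker P hP hPn hstar π hπ).1 χ f hpf hχ1 hnt

end Cfsg.Agent.Lib.helper15.PSL
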