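import Mathlib
import Cfsg.Agent.Lib.Helper13.PSLCOUNT2
import Cfsg.Agent.Lib.Helper13.PSLPERF
import Cfsg.Agent.Lib.Helper13.PSLZLEV
import Cfsg.Agent.Lib.Helper16.PSLPB2
import Cfsg.Agent.Lib.Helper21.PSLCHISUM
import Cfsg.Agent.Lib.Helper21.PSLCKER
import Cfsg.Agent.Lib.Helper21.PSLVZ
import Cfsg.Agent.Lib.Helper28.PSLE1CASE
import Cfsg.Agent.Lib.Helper29.PSLM2MINUS
import Cfsg.Agent.Lib.helper15.PSL.BCHIw
import Cfsg.Agent.Lib.helper23.PSLM2R
import Cfsg.Agent.Lib.helper23.PSLVZA
import Cfsg.Agent.Lib.helper4.PSLM2Y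
import Cfsg.Agent.Lib.helper15.PSL.Defs
import Cfsg.Agent.Lib.helper15.BH.Main

/-!
# Project PSL (S4504) : the landed pieces of the skeleton, part 2 (stages M1 and M2 in the Leo vocabulary of project BH; the block of `χ`).

Import-only file: every piece of `Skeleton2.lean.txt` is proved in one of the modules above, in the namespace
`Cfsg.Agent.Lib.helper15.PSL`, with the statement of the skeleton.
-/
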