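import Mathlib
import Cfsg.Agent.Lib.helper15.PSL.Defs
import Cfsg.Agent.Lib.helper15.PSL.Pieces1
import Cfsg.Agent.Lib.helper15.PSL.Pieces2
import Cfsg.Agent.Lib.helper15.PSL.Main1
import Cfsg.Agent.Lib.helper15.PSL.BT4le
import Cfsg.Agent.Lib.helper15.PSL.Core2

/-!
# Project PSL (S4504) : assembly, part 2 : stage M1 (`χ` is irreducible, `χ|_C` is the sum of an orbit of
`f = (p - 1) / 2` linear characters), stage M2 (the principal block), Theorem M
-/

set_option autoImplicit false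
set_option linter.unusedVariables false
set_option linter.unusedSectionVars false
set_option linter.style.haveILetI false
open scoped ComplexConjugate
open Classical

namespace Cfsg.Agent.Lib.helper15.PSL

open Cfsg.Agent.Lib.helper7 Cfsg.Agent.Lib.helper7.BR Cfsg.Agent.Lib.helper2 Cfsg.Agent.Lib.Helper25
  Cfsg.Agent.Lib.Helper29 Cfsg.Agent.Lib.helper15.BH

universe u

variable {G : Type u} [Group G] [Fintype G] {p : ℕ} [Fact p.Prime]

/-- stage M1 -/
theorem m1_main (P : Sylow p G) (hP : Nat.card ↥(P : Subgroup G) = p)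
    (hnoK : ∀ K : Subgroup G, K.Normal → (P : Subgroup G) ≤ K → K = ⊤)
    (hPn : ¬ (P : Subgroup G).Normal) (hstar : LeoStar P)
    (π : ↥(Subgroup.centralizer ((P : Subgroup G) : Set G)) →* ↥(P : Subgroup G))
    (hπ : ∀ x : ↥(P : Subgroup G), π (Subgroup.inclusion (leoc_P_le_C hstar) x) = x)
    (χ : G → ℂ) (hχ : Cfsg.IsCharacter G χ) (hfaith : ∀ g : G, χ g = χ 1 → g = 1) (f : ℕ)
    (hd : χ 1 = (f : ℂ)) (hdeg : 2 * f + 1 = p) :
    ∃ (χ₀ χ' : Cfsg.IrrCharacter G)
      (θ₁ θ₂ : Cfsg.IrrCharacter ↥(Subgroup.centralizer ((P : Subgroup G) : Set G))),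
      (χ₀ : G → ℂ) = χ ∧ M1Out (leoc_setup hstar π hπ) f χ₀ χ' θ₁ θ₂ ∧
      (cen P).relIndex (nrm P) = f ∧ 2 ≤ f := by
  have hpp := (Fact.out : p.Prime)
  haveI : Fintype (Cfsg.IrrCharacter G) := Fintype.ofFinite _
  set h := leoc_setup hstar π hπ with hh
  set e := (Subgroup.centralizer ((P : Subgroup G) : Set G)).relIndex
      (Subgroup.normalizer ((P : Subgroup G) : Set G)) with hedef
  have hdvd : e ∣ p - 1 :=
    Cfsg.Agent.Lib.helper8.h8_relIndex_centralizer_normalizer_dvd_prime p hpp (P : Subgroup G) hP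
  have hp2 : 2 ≤ p := hpp.two_le
  have he0 : 0 < e := Nat.pos_of_dvd_of_pos hdvd (by omega)
  have he1 : 1 < e := by
    by_contra hcon
    have he : e = 1 := by omega
    exact hPn (index_one_normal P hP χ hχ hfaith f hd (by omega) he)
  -- a constituent which is not trivial on `P`
  obtain ⟨mm, hmm, hexp⟩ := isCharacter_expansion hχ
  have hex : ∃ η : Cfsg.IrrCharacter G, mm η ≠ 0 ∧
      ∃ x ∈ (P : Subgroup G), (η : G → ℂ) x ≠ (η : G → ℂ) 1 := by
    by_contra hcon
    push Not at hcon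
    have hall : ∀ x ∈ (P : Subgroup G), x = 1 := by
      intro x hx
      apply hfaith
      have h1 := congrFun hexp x
      have h2 := congrFun hexp 1
      rw [h1, h2]
      simp only [Finset.sum_apply, Pi.smul_apply, smul_eq_mul]
      apply Finset.sum_congr rfl
      intro η _
      by_cases hη : mm η = 0
      · rw [hη]
        simp
      · rw [hcon η hη x hx]
    have hbot : (P : Subgroup G) = ⊥ := by
      rw [eq_bot_iff]
      intro x hx
      rw [Subgroup.mem_bot]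
      exact hall x hx
    rw [hbot, Subgroup.card_bot] at hP
    omega
  obtain ⟨η, hη, hnt⟩ := hex
  have hle : leoDeg η ≤ f := by
    have hdη := isCharacter_degree_ge hχ η (mm η) f (leoDeg η) (hmm η) hd (leoDeg_spec η)
    have : leoDeg η ≤ mm η * leoDeg η := Nat.le_mul_of_pos_left _ (Nat.pos_of_ne_zero hη)
    omega
  have hdegη : leoDeg η = f := by
    by_contra hne
    have hlt : 2 * leoDeg η + 1 < p := by omega
    exact core_big P hP hnoK η hlt hnt he1
  have hχη : ∀ g : G, χ g = (η : G → ℂ) g := by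
    have hS : ∀ ξ ∈ ({η} : Finset (Cfsg.IrrCharacter G)),
        Cfsg.classInner χ (ξ : G → ℂ) ≠ 0 := by
      intro ξ hξ
      rw [Finset.mem_singleton] at hξ
      rw [hξ, hmm η]
      exact_mod_cast hη
    have := decomp_of_degree hχ {η} hS f hd (by rw [Finset.sum_singleton, hdegη])
    intro g
    rw [this g, Finset.sum_singleton]
  -- the orbit
  obtain ⟨θ₁, hθ₁, hval⟩ := small_degree_orbit_le P hP hstar π hπ η (by omega) hnt
  have hmult := ext_orbit h η (by rw [hP]; omega) θ₁ hθ₁ hval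
  have hcardorb : (leoOrb h θ₁).card = e := orbit_card_eq_relIndex P hstar π hπ θ₁ hθ₁
  have hdegorb := leo_deg_orbit h η θ₁ hmult
  rw [hcardorb, hdegη] at hdegorb
  have hd₁ : 0 < leoDeg θ₁ := leoDeg_pos θ₁
  have hlin : leoDeg θ₁ = 1 := by
    by_contra hne
    have h2 : 2 ≤ leoDeg θ₁ := by omega
    have h3 : 2 * e ≤ f := by
      calc 2 * e = e * 2 := by ring
        _ ≤ e * leoDeg θ₁ := Nat.mul_le_mul_left _ h2
        _ = f := hdegorb.symm
    exact orbit_small_contra P hP hnoK hstar π hπ η θ₁ hθ₁ hmult he1 (by omega)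
  have hef : e = f := by
    rw [hlin, mul_one] at hdegorb
    exact hdegorb.symm
  -- the conjugate character
  haveI : Finite (↥(P : Subgroup G) →* ℂˣ) := Nat.finite_of_card_ne_zero (by
    rw [afd_card_dual (leo_comm h)]
    exact Nat.card_pos.ne')
  haveI : Fintype (↥(P : Subgroup G) →* ℂˣ) := Fintype.ofFinite _
  have hres := leo_res_orbit h η θ₁ hmult
  obtain ⟨lam, hl, hav⟩ := leo_exists_twist h θ₁ (by rw [hcardorb, hP]; omega)
  have hnc := leo_twist_not_mem h θ₁ lam hav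
  obtain ⟨χ', hres', hne, hreg0⟩ := exists_conj_char' h η θ₁ hθ₁ hmult lam hl hnc
  have hreg : ∀ g : G, ¬ p ∣ orderOf g → (χ' : G → ℂ) g = (η : G → ℂ) g := by
    intro g hg
    apply hreg0 g
    intro k c hc
    apply leoc_pi_eq_one π c
    rw [hc]
    have : orderOf (k⁻¹ * g * k) = orderOf g := by
      have := h7_orderOf_conj k⁻¹ g
      rwa [inv_inv] at this
    rw [this]
    exact hg
  have hdis := leo_orbits_disjoint_om h θ₁ lam hav
  have hom2 : leoOm h (leoTw (lam.comp π) θ₁) ≠ 1 := by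
    rw [leoOm_tw]
    exact hl
  have hcardorb' : (leoOrb h (leoTw (lam.comp π) θ₁)).card = e :=
    orbit_card_eq_relIndex P hstar π hπ _ hom2
  refine ⟨η, χ', θ₁, leoTw (lam.comp π) θ₁, ?_, ?_, hef, by omega⟩
  · funext g
    exact (hχη g).symm
  · exact
      { hθ₁ := hθ₁
        hθ₂ := hom2
        hres := hres
        hres' := hres'
        hcard := by rw [hcardorb, hef]
        hcard' := by rw [hcardorb', hef]
        hlin := hlin
        hdis := fun ϑ hϑ ϑ' hϑ' => hdis ϑ ϑ' hϑ hϑ'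
        hne := hne
        hreg := hreg }

/-- stage M2 -/
theorem m2_main (P : Sylow p G) (hP : Nat.card ↥(P : Subgroup G) = p)
    (hnoK : ∀ K : Subgroup G, K.Normal → (P : Subgroup G) ≤ K → K = ⊤)
    (hPn : ¬ (P : Subgroup G).Normal) (hstar : LeoStar P)
    (π : ↥(Subgroup.centralizer ((P : Subgroup G) : Set G)) →* ↥(P : Subgroup G))
    (hπ : ∀ x : ↥(P : Subgroup G), π (Subgroup.inclusion (leoc_P_le_C hstar) x) = x)
    (f : ℕ) (hpf : 2 * f + 1 = p) (hf2 : 2 ≤ f) (hrel : (cen P).relIndex (nrm P) = f)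
    {χ χ' : Cfsg.IrrCharacter G}
    {θ₁ θ₂ : Cfsg.IrrCharacter ↥(Subgroup.centralizer ((P : Subgroup G) : Set G))}
    (hM : M1Out (leoc_setup hstar π hπ) f χ χ' θ₁ θ₂)
    (hfaith : ∀ g : G, (χ : G → ℂ) g = (χ : G → ℂ) 1 → g = 1)
    (hχ1 : (χ : G → ℂ) 1 = (f : ℂ)) :
    Loc p f P ∧ kerG π ≤ Subgroup.center G ∧
      ∃ (X Y : Finset (Cfsg.IrrCharacter G)) (a : Cfsg.IrrCharacter G → ℤ) (ε : ℤ) (D : ℕ),
        PB p f (P : Subgroup G) X Y a ε D ∧
          (CaseA f χ X a ε D ∨ ∃ η₀ : Cfsg.IrrCharacter G, CaseB f χ χ' X Y a ε D η₀) := by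
  have hpp := (Fact.out : p.Prime)
  haveI : Fintype (Cfsg.IrrCharacter G) := Fintype.ofFinite _
  set h := leoc_setup hstar π hπ with hh
  have hsingC : ∀ c : ↥(Subgroup.centralizer ((P : Subgroup G) : Set G)), π c ≠ 1 →
      p ∣ orderOf (c : G) := fun c hc => (pi_ne_one_iff P hstar π hπ c).mp hc
  have hregV : ∀ y : ↥(kerG π), ¬ p ∣ orderOf (y : G) := by
    intro y
    obtain ⟨c, hc1, hc2⟩ := (mem_kerG (y : G)).mp y.2
    rw [← hc2]
    intro hdiv
    exact ((pi_ne_one_iff P hstar π hπ c).mpr hdiv) hc1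
  have hpfP : Nat.card ↥(P : Subgroup G) = 2 * f + 1 := by rw [hP, hpf]
  obtain ⟨X, Y, a, ε, hB0⟩ := pb_values2 P hP f hrel hpf hf2
  have hminus := m2_minus h hsingC hM hB0
  have hplus := m2_plus h hsingC hnoK hM hB0
  obtain ⟨m, hm, hrm, hmf⟩ := m2_r_bound h hsingC hregV hM hB0
  obtain ⟨hY1, hY2⟩ := m2_Y h hsingC hpfP hM hB0
  -- the common degree of the members of `Y`
  obtain ⟨η₁, hη₁⟩ : Y.Nonempty := by
    rw [← Finset.card_pos, hB0.cardY]
    norm_num
  set D := leoDeg η₁ with hD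
  have hone : ¬ p ∣ orderOf (1 : G) := by
    rw [orderOf_one]
    exact hpp.not_dvd_one
  have hdegY : ∀ η ∈ Y, leoDeg η = D := by
    intro η hη
    have h1 := hB0.agree η hη η₁ hη₁ 1 hone
    rw [leoDeg_spec, leoDeg_spec] at h1
    exact_mod_cast h1
  -- the relation at `1`
  have hrelZ : ε * (D : ℤ) = ∑ ξ ∈ X, a ξ * (leoDeg ξ : ℤ) := by
    have h1 := hB0.rel η₁ hη₁ 1 hone
    have h2 : (ε : ℂ) * (leoDeg η₁ : ℂ) = ((∑ ξ ∈ X, a ξ * (leoDeg ξ : ℤ) : ℤ) : ℂ) := by
      rw [← leoDeg_spec η₁, h1]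
      push_cast
      apply Finset.sum_congr rfl
      intro ξ _
      rw [leoDeg_spec]
    exact_mod_cast h2
  -- the two product characters
  set W : G → ℂ := fun g => (χ : G → ℂ) g * conj ((χ : G → ℂ) g) with hWdef
  set W' : G → ℂ := fun g => (χ : G → ℂ) g * conj ((χ' : G → ℂ) g) with hW'def
  have hW : Cfsg.IsCharacter G W :=
    h7_isCharacter_mul (isCharacter_of_irr χ) (bg_isCharacter_conj (isCharacter_of_irr χ))
  have hW' : Cfsg.IsCharacter G W' :=
    h7_isCharacter_mul (isCharacter_of_irr χ) (bg_isCharacter_conj (isCharacter_of_irr χ'))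
  have hW1 : W 1 = ((f ^ 2 : ℕ) : ℂ) := by
    rw [hWdef]
    simp only
    rw [hχ1]
    push_cast
    rw [Complex.conj_natCast]
    ring
  have hW'1 : W' 1 = ((f ^ 2 : ℕ) : ℂ) := by
    rw [hW'def]
    simp only
    rw [hM.hreg 1 hone, hχ1]
    push_cast
    rw [Complex.conj_natCast]
    ring
  -- the degree bound from `W`
  have hWdeg : ∑ ξ ∈ X.filter (fun ξ => a ξ = 1), leoDeg ξ + (if ε = -1 then D else 0) ≤ f ^ 2 := by
    by_cases hε : ε = -1
    · rw [if_pos hε]
      obtain ⟨⟨η₀, hη₀, hne₀⟩, _⟩ := hY2 hε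
      have hη₀X : η₀ ∉ X.filter (fun ξ => a ξ = 1) := fun hmem =>
        Finset.disjoint_left.mp hB0.disj (Finset.mem_filter.mp hmem).1 hη₀
      have h1 := degree_sum_le hW (insert η₀ (X.filter (fun ξ => a ξ = 1))) (by
        intro ξ hξ
        rcases Finset.mem_insert.mp hξ with rfl | hξ
        · exact hne₀
        · exact (hplus ξ (Finset.mem_filter.mp hξ).1 (Finset.mem_filter.mp hξ).2).1) (f ^ 2) hW1
      rw [Finset.sum_insert hη₀X, hdegY η₀ hη₀] at h1
      omega
    · rw [if_neg hε, add_zero]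
      exact degree_sum_le hW _ (fun ξ hξ =>
        (hplus ξ (Finset.mem_filter.mp hξ).1 (Finset.mem_filter.mp hξ).2).1) (f ^ 2) hW1
  -- the principal character
  have hdeg0 : leoDeg (trivIrr G) = 1 := by
    have := leoDeg_spec (trivIrr G)
    rw [trivIrr_apply] at this
    exact_mod_cast this.symm
  have ha0 : a (trivIrr G) = 1 := by
    have h1 := hB0.valX (trivIrr G) hB0.triv_mem
    obtain ⟨x, hx⟩ := exists_prime_orderOf_dvd_card' (G := G) p (by
      have := Subgroup.card_subgroup_dvd_card (P : Subgroup G)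
      rwa [hP] at this)
    have h2 := h1 x (by rw [hx])
    rw [trivIrr_apply] at h2
    exact_mod_cast h2.symm
  have hr : (X.filter (fun ξ => a ξ = -1)).card * (p - 1) ≤ f ^ 2 := by
    have : (Xm X a).card * (Nat.card ↥(P : Subgroup G) - 1) ≤ m := hrm
    rw [hP] at this
    exact le_trans this hmf
  obtain ⟨hplusdeg, hcase⟩ := count_two p f hpf hf2 X (trivIrr G) hB0.triv_mem hB0.cardX a
    hB0.a_pm (fun ξ => leoDeg ξ) hdeg0 ha0
    (fun ξ hξ haξ => by
      have := (hminus ξ hξ haξ).1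
      rw [hP] at this
      exact this)
    (fun ξ hξ haξ hne => by
      have := (hplus ξ hξ haξ).2 hne
      rw [hP] at this
      exact this)
    ε hB0.eps_pm D hrelZ hr (fun hε => hY1 hε η₁ hη₁) (fun hε => (hY2 hε).2 η₁ hη₁) hWdeg
  -- the centre
  obtain ⟨hZV, hregZ⟩ := center_le_ker P hP hPn hstar π hπ
  have hcardV : Nat.card ↥(kerG π) * p = Nat.card ↥(cen P) := by
    have := card_kerG h
    rw [hP] at this
    exact this
  have hminus2 : ∀ ξ ∈ X, a ξ = -1 →
      ∑ y : ↥(kerG π), (ξ : G → ℂ) (y : G) = (leoDeg ξ : ℂ) * (Nat.card ↥(kerG π) : ℂ) :=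
    fun ξ hξ haξ => (hminus ξ hξ haξ).2.1
  have hdeg_minus : ∀ ξ ∈ X, a ξ = -1 → (ξ : G → ℂ) 1 = (p : ℂ) - 1 := by
    intro ξ hξ haξ
    have h1 := (hminus ξ hξ haξ).1
    rw [hP] at h1
    rw [leoDeg_spec, ← h1]
    push_cast
    ring
  have hdeg_plus : ∀ ξ ∈ X, a ξ = 1 → ξ ≠ trivIrr G → (ξ : G → ℂ) 1 = (p : ℂ) + 1 := by
    intro ξ hξ haξ hne
    rw [leoDeg_spec, hplusdeg ξ hξ haξ hne]
    push_cast
    ring
  have hdegY' : ∀ η ∈ Y, (η : G → ℂ) 1 = (D : ℂ) := by
    intro η hη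
    rw [leoDeg_spec, hdegY η hη]
  have hloc : kerG π ≤ Subgroup.center G → Loc p f P := by
    intro hVZ
    have heq : kerG π = Subgroup.center G := le_antisymm hVZ hZV
    exact
      { two_f := hpf
        f_ge := hf2
        cardP := hP
        relIndex := hrel
        cardC := by rw [← hcardV, heq, mul_comm]
        not_normal := hPn }
  rcases hcase with ⟨hε, hcardXp, hsumdeg⟩ | ⟨hε, hDf, hcardXp, hsumdeg, hrfull⟩
  · -- case A
    have hWdec : ∀ g : G, W g = ∑ ξ ∈ Xp X a, (ξ : G → ℂ) g :=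
      decomp_of_degree hW (Xp X a) (fun ξ hξ =>
        (hplus ξ (Finset.mem_filter.mp hξ).1 (Finset.mem_filter.mp hξ).2).1) (f ^ 2) hW1 hsumdeg
    have hsumV := ker_sum_A h hsingC hpfP hM hB0 hcardXp hWdec
    have hVZ : kerG π ≤ Subgroup.center G := le_center_of_sum χ hfaith (kerG π) f hχ1 hsumV
    refine ⟨hloc hVZ, hVZ, X, Y, a, ε, D, ?_, Or.inl ?_⟩
    · exact
        { toPB0 := hB0
          degY := hdegY'
          deg_minus := hdeg_minus
          deg_plus := hdeg_plus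
          cker := cker_main h hB0 hZV hregZ hminus2 χ (Xp X a) (Finset.Subset.refl _) hWdec }
    · exact
        { eps := hε
          D_eq := hY1 hε η₁ hη₁
          cardXp := hcardXp
          W := hWdec }
  · -- case B
    obtain ⟨⟨η₀, hη₀, hne₀⟩, _⟩ := hY2 hε
    have hη₀X : η₀ ∉ Xp X a := fun hmem =>
      Finset.disjoint_left.mp hB0.disj (Finset.mem_filter.mp hmem).1 hη₀
    have hWdec0 : ∀ g : G, W g = ∑ ξ ∈ insert η₀ (Xp X a), (ξ : G → ℂ) g :=
      decomp_of_degree hW (insert η₀ (Xp X a)) (by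
        intro ξ hξ
        rcases Finset.mem_insert.mp hξ with rfl | hξ
        · exact hne₀
        · exact (hplus ξ (Finset.mem_filter.mp hξ).1 (Finset.mem_filter.mp hξ).2).1) (f ^ 2) hW1 (by
        rw [Finset.sum_insert hη₀X, hdegY η₀ hη₀, add_comm]
        exact hsumdeg)
    have hWdec : ∀ g : G, W g = ∑ ξ ∈ Xp X a, (ξ : G → ℂ) g + (η₀ : G → ℂ) g := by
      intro g
      rw [hWdec0 g, Finset.sum_insert hη₀X, add_comm]
    have hW'dec : ∀ g : G, W' g = ∑ ξ ∈ Xm X a, (ξ : G → ℂ) g :=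
      decomp_of_degree hW' (Xm X a) (fun ξ hξ =>
        (hminus ξ (Finset.mem_filter.mp hξ).1 (Finset.mem_filter.mp hξ).2).2.2) (f ^ 2) hW'1 (by
        have h1 : ∀ ξ ∈ Xm X a, leoDeg ξ = p - 1 := by
          intro ξ hξ
          have := (hminus ξ (Finset.mem_filter.mp hξ).1 (Finset.mem_filter.mp hξ).2).1
          rw [hP] at this
          omega
        rw [Finset.sum_congr rfl h1, Finset.sum_const, smul_eq_mul]
        exact hrfull)
    have hmeq : m = f ^ 2 := by
      have : (Xm X a).card * (Nat.card ↥(P : Subgroup G) - 1) ≤ m := hrm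
      rw [hP] at this
      have h2 : (Xm X a).card * (p - 1) = f ^ 2 := hrfull
      omega
    have hsumV : ∑ y : ↥(kerG π), Complex.normSq ((χ : G → ℂ) (y : G)) =
        (f : ℝ) ^ 2 * (Nat.card ↥(kerG π) : ℝ) := by
      rw [hm, hmeq]
      push_cast
      ring
    have hVZ : kerG π ≤ Subgroup.center G := le_center_of_sum χ hfaith (kerG π) f hχ1 hsumV
    refine ⟨hloc hVZ, hVZ, X, Y, a, ε, D, ?_, Or.inr ⟨η₀, ?_⟩⟩
    · exact
        { toPB0 := hB0
          degY := hdegY'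
          deg_minus := hdeg_minus
          deg_plus := hdeg_plus
          cker := cker_main h hB0 hZV hregZ hminus2 χ (insert η₀ (Xp X a))
            (Finset.subset_insert _ _) hWdec0 }
    · exact
        { eps := hε
          D_eq := hDf
          mem := hη₀
          cardXp := hcardXp
          W := hWdec
          W' := hW'dec }

/-- Theorem M : the case where no proper normal subgroup contains `P` -/
theorem thmM (P : Sylow p G) (hP : Nat.card ↥(P : Subgroup G) = p)
    (hnoK : ∀ K : Subgroup G, K.Normal → (P : Subgroup G) ≤ K → K = ⊤)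
    (hPn : ¬ (P : Subgroup G).Normal) (χ : G → ℂ) (hχ : Cfsg.IsCharacter G χ)
    (hfaith : ∀ g : G, χ g = χ 1 → g = 1) (f : ℕ) (hd : χ 1 = (f : ℂ)) (hdeg : 2 * f + 1 = p) :
    Cfsg.IsIrrCharacter G χ ∧ (cen P).relIndex (nrm P) = f ∧ (nrm P).index = p + 1 ∧
      Nonempty ((G ⧸ Subgroup.center G) ≃* Matrix.ProjectiveSpecialLinearGroup (Fin 2) (ZMod p)) := by
  have hstar := leoStar_of_card P hP
  obtain ⟨π, hπ⟩ := leoc_exists_pi hstar
  obtain ⟨χ₀, χ', θ₁, θ₂, hχ₀, hM, hrel, hf2⟩ :=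
    m1_main P hP hnoK hPn hstar π hπ χ hχ hfaith f hd hdeg
  have hfaith₀ : ∀ g : G, (χ₀ : G → ℂ) g = (χ₀ : G → ℂ) 1 → g = 1 := by
    rw [hχ₀]
    exact hfaith
  have hχ₀1 : (χ₀ : G → ℂ) 1 = (f : ℂ) := by
    rw [hχ₀]
    exact hd
  have hperf : commutator G = ⊤ := perfect_of_noK P hP hnoK (by rw [hrel]; omega)
  obtain ⟨hL, hVZ, X, Y, a, ε, D, hB, hAB⟩ :=
    m2_main P hP hnoK hPn hstar π hπ f hdeg hf2 hrel hM hfaith₀ hχ₀1
  have htail := thm_tail (χ := χ₀) hL hperf hχ₀1 hfaith₀ (by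
    refine ⟨X, Y, a, ε, D, hB, ?_⟩
    rcases hAB with hA | ⟨η₀, hC⟩
    · exact Or.inl hA
    · right
      have hnt : ∃ x ∈ (P : Subgroup G), (χ₀ : G → ℂ) x ≠ (χ₀ : G → ℂ) 1 := by
        by_contra hcon
        push Not at hcon
        have hall : ∀ x ∈ (P : Subgroup G), x = 1 := fun x hx => hfaith₀ x (hcon x hx)
        have hbot : (P : Subgroup G) = ⊥ := by
          rw [eq_bot_iff]
          intro x hx
          rw [Subgroup.mem_bot]
          exact hall x hx
        rw [hbot, Subgroup.card_bot] at hP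
        have := (Fact.out : p.Prime).two_le
        omega
      obtain ⟨X', a', hcard', hapm', hval', hrel'⟩ :=
        bchi_values P hP hPn hstar π hπ hVZ χ₀ f hdeg hχ₀1 hnt
      obtain ⟨hs1, hs2⟩ := chi_sum (leoc_setup hstar π hπ) (by rw [hP, hdeg]) hM
      exact ⟨χ', η₀, X', a', hC,
        { cardX := by rw [hcard', hrel]
          a_pm := hapm'
          val := hval'
          rel := hrel'
          hne := hM.hne
          hreg := hM.hreg
          hsum := hs1
          sumP := hs2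
          degχ := hχ₀1 }⟩)
  refine ⟨?_, hrel, htail.1, htail.2⟩
  rw [← hχ₀]
  exact χ₀.2

end Cfsg.Agent.Lib.helper15.PSL
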