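import Mathlib
import Cfsg.Agent.Lib.Helper1.PSLL4A
import Cfsg.Agent.Lib.Helper1.PSLL4B
import Cfsg.Agent.Lib.Helper1.PSLL5
import Cfsg.Agent.Lib.Helper10.PSLL0
import Cfsg.Agent.Lib.Helper10.PSLL1
import Cfsg.Agent.Lib.Helper10.PSLL2
import Cfsg.Agent.Lib.Helper10.PSLL3
import Cfsg.Agent.Lib.Helper18.PSLLNN
import Cfsg.Agent.Lib.Helper18.PSLLRED
import Cfsg.Agent.Lib.helper15.PSL.Defs

/-!
# Project PSL (S4504) : the landed pieces of the skeleton, part 3 (the lifting lemmas).

Import-only file: every piece of `Skeleton3.lean.txt` is proved in one of the modules above, in the namespace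
`Cfsg.Agent.Lib.helper15.PSL`, with the statement of the skeleton.
-/
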