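import Mathlib
import Cfsg.Agent.Lib.helper15.PSL.Defs
import Cfsg.Agent.Lib.helper15.PSL.Pieces3
import Cfsg.Agent.Lib.helper23.BHSTAR
import Cfsg.Agent.Lib.helper23.BHSING

/-!
# Project PSL (S4504) : assembly, part 3 : the lifting from the normal closure `K` of `P` to `G`
-/

set_option autoImplicit false
set_option linter.unusedVariables false
set_option linter.unusedSectionVars false
set_option linter.style.haveILetI false
open scoped ComplexConjugate
open Classical

namespace Cfsg.Agent.Lib.helper15.PSL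

open Cfsg.Agent.Lib.helper7 Cfsg.Agent.Lib.helper7.BR Cfsg.Agent.Lib.helper2 Cfsg.Agent.Lib.Helper25
  Cfsg.Agent.Lib.Helper29 Cfsg.Agent.Lib.helper15.BH

universe u

variable {G : Type u} [Group G] [Fintype G] {p : ℕ} [Fact p.Prime]

/-- the lifting: from Theorem M for the normal closure `K` of `P` to `G` -/
theorem lift_main (P : Sylow p G) (hP : Nat.card ↥(P : Subgroup G) = p)
    (hPn : ¬ (P : Subgroup G).Normal) (χ : G → ℂ) (hχ : Cfsg.IsCharacter G χ)
    (hfaith : ∀ g : G, χ g = χ 1 → g = 1) (f : ℕ) (hd : χ 1 = (f : ℂ)) (hpf : 2 * f + 1 = p)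
    (hPK : (P : Subgroup G) ≤ Subgroup.normalClosure ((P : Subgroup G) : Set G))
    (hirrK : Cfsg.IsIrrCharacter ↥(Subgroup.normalClosure ((P : Subgroup G) : Set G))
      (fun k : ↥(Subgroup.normalClosure ((P : Subgroup G) : Set G)) => χ (k : G)))
    (hrelK : (cen (P.subtype hPK :
        Sylow p ↥(Subgroup.normalClosure ((P : Subgroup G) : Set G)))).relIndex
      (nrm (P.subtype hPK : Sylow p ↥(Subgroup.normalClosure ((P : Subgroup G) : Set G)))) = f)
    (hidxK : (nrm (P.subtype hPK :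
        Sylow p ↥(Subgroup.normalClosure ((P : Subgroup G) : Set G)))).index = p + 1)
    (hisoK : Nonempty ((↥(Subgroup.normalClosure ((P : Subgroup G) : Set G)) ⧸
        Subgroup.center ↥(Subgroup.normalClosure ((P : Subgroup G) : Set G))) ≃*
      Matrix.ProjectiveSpecialLinearGroup (Fin 2) (ZMod p))) :
    Nonempty ((G ⧸ Subgroup.center G) ≃* Matrix.ProjectiveSpecialLinearGroup (Fin 2) (ZMod p)) := by
  set K := Subgroup.normalClosure ((P : Subgroup G) : Set G) with hK
  haveI : K.Normal := Subgroup.normalClosure_normal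
  have hcard : Nat.card (Sylow p G) = p + 1 := by
    rw [P.card_eq_index_normalizer]
    have := index_nrm_subtype K P hPK
    rw [hidxK] at this
    exact this
  have hnot : ∀ a ∈ (P : Subgroup G), a ≠ 1 → ¬ ∀ b ∈ (P : Subgroup G), b ≠ 1 → IsConj a b :=
    fun a ha ha1 => not_all_conj P hP χ hχ hfaith f hd hpf a ha ha1
  have hfr := frattini_cen K P hPK hP f hpf hrelK hnot
  have hstar := leoStar_of_card P hP
  obtain ⟨π, hπ⟩ := leoc_exists_pi hstar
  have hcover : ∀ g : G, ∃ k ∈ K, ∃ z ∈ Subgroup.center G, g = k * z := by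
    intro g
    obtain ⟨k, hk, c, hc, rfl⟩ := hfr g
    set x : ↥(P : Subgroup G) := π ⟨c, hc⟩ with hx
    have hxC : (x : G) ∈ cen P := leoc_P_le_C hstar x.2
    have hvC : (x : G)⁻¹ * c ∈ cen P := Subgroup.mul_mem _ (Subgroup.inv_mem _ hxC) hc
    have hπv : π ⟨(x : G)⁻¹ * c, hvC⟩ = 1 := by
      have e1 : (⟨(x : G)⁻¹ * c, hvC⟩ : ↥(cen P)) =
          (Subgroup.inclusion (leoc_P_le_C hstar) x)⁻¹ * ⟨c, hc⟩ := by
        apply Subtype.ext
        rfl
      rw [e1, map_mul, map_inv, hπ, ← hx, inv_mul_cancel]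
    have hreg : ¬ p ∣ orderOf ((x : G)⁻¹ * c) := by
      intro hdiv
      exact ((pi_ne_one_iff P hstar π hπ ⟨(x : G)⁻¹ * c, hvC⟩).mpr hdiv) hπv
    have hker := pregular_cen_le_ker P hP hcard _ hvC hreg
    have hcen : (x : G)⁻¹ * c ∈ Subgroup.center G :=
      commute_le_center K χ hχ hfaith hirrK _
        (fun k' hk' => ker_commute_closure P hP hPn _ hker k' hk')
    refine ⟨k * (x : G), Subgroup.mul_mem _ hk (hPK x.2), (x : G)⁻¹ * c, hcen, ?_⟩
    group
  obtain ⟨e1⟩ := quotient_center_iso K hcover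
  obtain ⟨e2⟩ := hisoK
  exact ⟨e1.trans e2⟩

end Cfsg.Agent.Lib.helper15.PSL
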