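import Mathlib
import Cfsg.Agent.Lib.helper15.PSL.Main2
import Cfsg.Agent.Lib.helper15.PSL.Main3

/-!
# Project PSL (S4504) : the final assembly
-/

set_option autoImplicit false
set_option linter.unusedVariables false
set_option linter.unusedSectionVars false
set_option linter.style.haveILetI false
open scoped ComplexConjugate
open Classical

namespace Cfsg.Agent.Lib.helper15.PSL

open Cfsg.Agent.Lib.helper7 Cfsg.Agent.Lib.helper7.BR Cfsg.Agent.Lib.helper2 Cfsg.Agent.Lib.Helper25
  Cfsg.Agent.Lib.Helper29 Cfsg.Agent.Lib.helper15.BH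

universe u

/-- S4504 -/
theorem psl_main {G : Type u} [Group G] [Finite G] (p : ℕ) (hp : p.Prime)
    (hdiv : p ∣ Nat.card G) (hsq : ¬ p ^ 2 ∣ Nat.card G)
    (hnn : ∀ H : Subgroup G, H.Normal → Nat.card H ≠ p) (χ : G → ℂ)
    (hχ : Cfsg.IsCharacter G χ) (hfaith : ∀ g : G, χ g = χ 1 → g = 1)
    (hdeg : 2 * Cfsg.charDegree χ + 1 = p) :
    Nonempty ((G ⧸ Subgroup.center G) ≃*
      Matrix.ProjectiveSpecialLinearGroup (Fin 2) (ZMod p)) := by
  haveI : Fact p.Prime := ⟨hp⟩
  haveI : Fintype G := Fintype.ofFinite G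
  obtain ⟨d, hd⟩ := isCharacter_one_eq_nat hχ
  have hdeg' : Cfsg.charDegree χ = d := by
    unfold Cfsg.charDegree
    rw [hd]
    simp
  rw [hdeg'] at hdeg
  obtain ⟨P⟩ : Nonempty (Sylow p G) := inferInstance
  have hfac : (Nat.card G).factorization p = 1 := by
    have hG : Nat.card G ≠ 0 := Nat.card_pos.ne'
    have h1 : 1 ≤ (Nat.card G).factorization p :=
      (hp.dvd_iff_one_le_factorization hG).mp hdiv
    have h2 : ¬ 2 ≤ (Nat.card G).factorization p := by
      intro h
      exact hsq ((hp.pow_dvd_iff_le_factorization hG).mpr h)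
    omega
  have hP : Nat.card ↥(P : Subgroup G) = p := by
    rw [P.card_eq_multiplicity, hfac, pow_one]
  have hPn : ¬ (P : Subgroup G).Normal := fun hn => hnn (P : Subgroup G) hn hP
  have hPK : (P : Subgroup G) ≤ Subgroup.normalClosure ((P : Subgroup G) : Set G) :=
    Subgroup.subset_normalClosure
  haveI : (Subgroup.normalClosure ((P : Subgroup G) : Set G)).Normal :=
    Subgroup.normalClosure_normal
  have hcardPK : Nat.card ↥((P.subtype hPK :
      Sylow p ↥(Subgroup.normalClosure ((P : Subgroup G) : Set G))) :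
        Subgroup ↥(Subgroup.normalClosure ((P : Subgroup G) : Set G))) = p := by
    have h1 : Nat.card ↥((P.subtype hPK :
        Sylow p ↥(Subgroup.normalClosure ((P : Subgroup G) : Set G))) :
          Subgroup ↥(Subgroup.normalClosure ((P : Subgroup G) : Set G))) =
        Nat.card ↥(P : Subgroup G) :=
      Nat.card_congr (Subgroup.subgroupOfEquivOfLe hPK).toEquiv
    rw [h1]
    exact hP
  obtain ⟨hirr, hrelK, hidxK, hisoK⟩ := thmM (P.subtype hPK) hcardPK (closure_noK P hPK)
    (subtype_not_normal _ P hPK hPn)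
    (fun k : ↥(Subgroup.normalClosure ((P : Subgroup G) : Set G)) => χ (k : G))
    (isCharacter_restrict hχ _) (fun k hk => Subtype.ext (hfaith (k : G) hk)) d hd hdeg
  exact lift_main P hP hPn χ hχ hfaith d hd hdeg hPK hirr hrelK hidxK hisoK

end Cfsg.Agent.Lib.helper15.PSL
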